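import Cfsg.Agent.H489.OutClassical
import Cfsg.Agent.H679.SporOut
import Cfsg.Agent.S0254
import Cfsg.Agent.S2119
import Cfsg.Agent.S2060
import Cfsg.Agent.S2061
import Cfsg.Agent.S2062
import Cfsg.Agent.S2063
import Cfsg.Agent.S2064
import Cfsg.Agent.S2065
import Cfsg.Agent.S2066
import Cfsg.Agent.S2067
import Cfsg.Agent.S2068
import Cfsg.Agent.S2069
import Cfsg.Agent.S2070
import Cfsg.Agent.S2071
import Cfsg.Agent.S2072
import Cfsg.Agent.S2073
import Cfsg.Agent.S2074
import Cfsg.Agent.S2075
import Cfsg.Agent.S2076
import Cfsg.Agent.S2077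
import Cfsg.Agent.S2078
import Cfsg.Agent.S2079
import Cfsg.Agent.S2080
import Cfsg.Agent.S2081
import Cfsg.Agent.S2082
import Cfsg.Agent.S2083
import Cfsg.Agent.S2084
import Cfsg.Agent.S2085

/-!
# `|Out S| ≤ 2` for the sporadic groups, the Tits group and the alternating groups of degree `≠ 6`
-/

set_option autoImplicit false

namespace Cfsg.Agent.H489

open Subgroup Cfsg

theorem le_two {K : Type*} [Group K] {T : Type*} [Group T] (h : Nonempty (K ≃* T)) {n : ℕ} (hn : Nat.card (Out T) = n)
    (h2 : n ≤ 2) : Nat.card (Out K) ≤ 2 := by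
  obtain ⟨e⟩ := h
  rw [H55.OutGen.card_out_congr e, hn]
  exact h2

/-- **`|Out K| ≤ 2` for the sporadic groups.** -/
theorem card_out_sporadic {K : Type*} [Group K] (h : IsSporadicGroup K) : Nat.card (Out K) ≤ 2 := by
  rcases h with h | h | h | h | h | h | h | h | h | h | h | h | h | h | h | h | h | h | h | h | h | h | h | h | h | h
  · exact le_two h S2060.result (by norm_num)
  · exact le_two h S2061.result (by norm_num)
  · exact le_two h S2062.result (by norm_num)
  · exact le_two h S2063.result (by norm_num)
  · exact le_two h S2064.result (by norm_num)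
  · exact le_two h S2065.result (by norm_num)
  · exact le_two h S2066.result (by norm_num)
  · obtain ⟨F, _, _, ω, hF, hω, h⟩ := h
    exact le_two h (S2067.result hF ω hω) (by norm_num)
  · exact le_two h S2068.result (by norm_num)
  · exact le_two h S2069.result (by norm_num)
  · exact le_two h S2070.result (by norm_num)
  · exact le_two h S2071.result (by norm_num)
  · exact le_two h S2073.result (by norm_num)
  · exact le_two h S2072.result (by norm_num)
  · exact le_two h S2074.result (by norm_num)
  · exact le_two h S2075.result (by norm_num)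
  · exact le_two h S2077.result (by norm_num)
  · exact le_two h S2078.result (by norm_num)
  · exact le_two h S2076.result (by norm_num)
  · exact le_two h S2079.result (by norm_num)
  · exact le_two h S2080.result (by norm_num)
  · exact le_two h S2081.result (by norm_num)
  · exact le_two h S2082.result (by norm_num)
  · exact le_two h S2083.result (by norm_num)
  · exact le_two h S2084.result (by norm_num)
  · exact le_two h S2085.result (by norm_num)

theorem card_out_TT : Nat.card (Out ↥Cfsg.Agent.TitsK.TT) ≤ 2 := by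
  have hfin : Finite Cfsg.Agent.FourTwo.Base.LL := Cfsg.Agent.FourTwo.Perf.instFiniteLL
  have h := Cfsg.Agent.TitsK.tdata.index_inn
  refine Nat.le_of_dvd (by norm_num) ?_
  rw [H55.OutGen.card_out_eq_index]
  refine dvd_trans ?_ h
  exact dvd_refl _

/-- **`|Out K| ≤ 2` for the Tits group.** -/
theorem card_out_tits {K : Type*} [Group K] (h : Lie.IsoTits K) : Nat.card (Out K) ≤ 2 := by
  obtain ⟨e⟩ := H679.SporOut.exists_tits_TT h
  have h1 := card_out_TT
  have h2 := H55.OutGen.card_out_congr (H := ↥Cfsg.Agent.TitsK.TT) e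
  exact h2.le.trans h1

/-- **`|Out A_n| = 2`, `n ≠ 6`.** -/
theorem card_out_alt {n : ℕ} (hn : 5 ≤ n) (h6 : n ≠ 6) : Nat.card (Out (alternatingGroup (Fin n))) = 2 := by
  have h1 : Nat.card (MulAut (alternatingGroup (Fin n))) = Nat.card (Equiv.Perm (Fin n)) :=
    (Nat.card_congr (Equiv.ofBijective _ (S2119.result n (by omega) h6))).symm
  have h2 : Nontrivial (Fin n) := Fin.nontrivial_iff_two_le.2 (by omega)
  have h3 : 2 * Nat.card (alternatingGroup (Fin n)) = Nat.card (Equiv.Perm (Fin n)) := by
    rw [Nat.card_eq_fintype_card, Nat.card_eq_fintype_card]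
    exact two_mul_card_alternatingGroup
  have hs : IsSimpleGroup (alternatingGroup (Fin n)) := alternatingGroup.isSimpleGroup (by simpa using hn)
  refine card_out_of ?_ (MulEquiv.refl _) (by rw [h1, h3])
  intro hc
  have h4 : (Nat.card (alternatingGroup (Fin n))).Prime := by
    let _ : CommGroup (alternatingGroup (Fin n)) := { (inferInstance : Group (alternatingGroup (Fin n))) with
      mul_comm := hc.is_comm.comm }
    exact IsSimpleGroup.prime_card
  have h5 : 2 * Nat.card (alternatingGroup (Fin n)) = n.factorial := by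
    rw [h3, Nat.card_eq_fintype_card, Fintype.card_perm, Fintype.card_fin]
  have h6 : 5 * 4 * 3 * 2 ∣ n.factorial := by
    have : Nat.factorial 5 ∣ n.factorial := Nat.factorial_dvd_factorial hn
    exact this
  have h7 : 4 ∣ Nat.card (alternatingGroup (Fin n)) := by
    have : 2 * 4 ∣ 2 * Nat.card (alternatingGroup (Fin n)) := by
      rw [h5]
      exact dvd_trans (by norm_num) h6
    exact Nat.dvd_of_mul_dvd_mul_left (by norm_num) this
  have h8 : 2 ∣ Nat.card (alternatingGroup (Fin n)) := dvd_trans (by norm_num) h7
  rw [← (Nat.prime_dvd_prime_iff_eq Nat.prime_two h4).1 h8] at h7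
  exact absurd h7 (by norm_num)

/-- `A₆` is a `PSL₂(9)` -/
theorem isPSL_alt_six {K : Type*} [Group K] (e : K ≃* alternatingGroup (Fin 6)) : IsPSL K := by
  let _ : Fintype (GaloisField 3 2) := Fintype.ofFinite _
  have h9 : Fintype.card (GaloisField 3 2) = 9 := by
    rw [← Nat.card_eq_fintype_card, GaloisField.card 3 2 (by norm_num)]
    norm_num
  obtain ⟨e'⟩ := S0254.result h9
  exact ⟨GaloisField 3 2, inferInstance, inferInstance, 2, le_rfl, fun _ => by rw [h9]; norm_num, ⟨e.trans e'.symm⟩⟩

end Cfsg.Agent.H489
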