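import Cfsg.Agent.H489.DegBase
import Cfsg.Agent.Ly.Setup
import Cfsg.Agent.S2050

/-!
# The Lyons group has no projective representations of degree at most 19 (helper489)

Characteristic not 5: a group `5^(1+2)` in `G₂(5)` with four conjugates of a generator of its centre in it.
Characteristic 5: `3⁵ : (11 × 2)` acts freely on the characters of `3⁵`.
-/

set_option autoImplicit false
set_option maxRecDepth 100000

universe u v

namespace Cfsg.Agent.H489.Deg.Ly

open Cfsg
open Cfsg.Agent.Ly.Mat7 Cfsg.Agent.Ly.Cover Cfsg.Agent.Ly.Upper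
open Cfsg.Agent.H912.Bd Cfsg.Agent.H921.Spor Cfsg.Agent.H915.LD
open Matrix (GeneralLinearGroup)

/-- the words in `G₂(5)` -/
noncomputable def wd : Wd Hhat where
  W := fun u => ev Data.hgen u
  nil := ev_nil _
  app := fun u v => ev_append _ u v
  eq := eqW
  eq_sound := fun h => Subtype.ext (by rw [Data.coe_ev, Data.coe_ev]; exact word_eq h)
  ne := fun u => !(eqW u [])
  ne_sound := by
    intro u h h1
    have h2 : (ev gen u : GL (Fin 7) (ZMod 5)) = 1 := by
      rw [← Data.coe_ev, h1]; rfl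
    have h3 := evalK_spec u oneN_ok
    have h4 : toM (evalK u oneN) = toM oneN := by rw [h3.2, h2, Units.val_one, Matrix.mul_one]
    have h5 : evalK u oneN = oneN := toM_inj h3.1 oneN_ok h4
    have h6 : eqW u [] = true := by
      unfold eqW
      rw [h5]
      exact Nat.beq_refl _
    rw [h6] at h
    exact absurd h (by decide)

theorem ly_five {F : Type u} [Field F] (h5 : ((5 : ℕ) : F) ≠ 0) : Bd F 5 (4 * 5) Cfsg.Spor.Ly :=
  (wd.bd_ext (r := 5) (a := [2]) (b := [4, 2, 0]) (z := [2, 4, 2, 0, 6, 4, 6, 0]) (y := [0]) (k := 3) 4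
    (by norm_num) h5 (by decide +kernel) (by decide)).of_sub Cfsg.Agent.Ly.Setup.psi
    Cfsg.Agent.Ly.Setup.psi_injective

section three

open Cfsg.Agent.H51.LyThree Cfsg.Agent.H51.LyThreeData

theorem e_pow (k : ℕ) : e (k + 1) = g⁻¹ * e k * g := rfl

theorem e3 (k : ℕ) : e k ^ 3 = 1 := by
  induction k with
  | zero => exact pow_three_eq (rel_one (.cons h0 <| .cons h0 <| .cons h0 .nil) ordE)
  | succ k ih =>
    have h : e (k + 1) = g⁻¹ * e k * (g⁻¹)⁻¹ := by rw [inv_inv]; rfl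
    rw [h, conj_pow, ih]
    group

theorem comm0 {k : ℕ} (hk1 : 1 ≤ k) (hk4 : k ≤ 4) : e 0 * e k = e k * e 0 := by
  interval_cases k
  · exact comm_eq (rel (.cons h0 <| .cons h1 .nil) (.cons h1 <| .cons h0 .nil) comE1)
  · exact comm_eq (rel (.cons h0 <| .cons h2 .nil) (.cons h2 <| .cons h0 .nil) comE2)
  · exact comm_eq (rel (.cons h0 <| .cons h3 .nil) (.cons h3 <| .cons h0 .nil) comE3)
  · exact comm_eq (rel (.cons h0 <| .cons h4 .nil) (.cons h4 <| .cons h0 .nil) comE4)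

theorem comm' (i j : ℕ) (hj : j ≤ 4) : e i * e (i + j) = e (i + j) * e i := by
  induction i with
  | zero =>
    rcases Nat.eq_zero_or_pos j with rfl | h
    · rfl
    · rw [zero_add]; exact comm0 h hj
  | succ i ih =>
    rw [show i + 1 + j = (i + j) + 1 by omega, e_pow, e_pow]
    calc g⁻¹ * e i * g * (g⁻¹ * e (i + j) * g) = g⁻¹ * (e i * e (i + j)) * g := by group
      _ = g⁻¹ * (e (i + j) * e i) * g := by rw [ih]
      _ = _ := by group

/-- the commuting elements -/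
noncomputable def x (i : ℕ) : Cfsg.Spor.Ly := if i < 5 then e i else 1

theorem x_comm (i j : ℕ) : x i * x j = x j * x i := by
  unfold x
  split_ifs with h1 h2
  · rcases le_total i j with h | h
    · have := comm' i (j - i) (by omega)
      rwa [show i + (j - i) = j by omega] at this
    · have := comm' j (i - j) (by omega)
      rw [show j + (i - j) = i by omega] at this
      exact this.symm
  · rw [mul_one, one_mul]
  · rw [mul_one, one_mul]
  · rfl

theorem e_five : e 5 = e 0 * e 1 * e 2 ^ 2 * e 3 := by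
  have := rel (.cons h5 .nil) (.cons h0 <| .cons h1 <| .cons h2 <| .cons h2 <| .cons h3 .nil) recE
  simpa [mul_assoc, pow_two] using this

theorem t_inv (k : ℕ) : t * e k * t⁻¹ = e k ^ 2 := by
  have hx : e 0 * t * e 0 = t := by
    have := rel (.cons h0 <| .cons ht <| .cons h0 .nil) (.cons ht .nil) invE
    simpa [mul_assoc] using this
  have hi : ∀ k, e k ^ 2 = (e k)⁻¹ := fun k => by
    rw [eq_inv_iff_mul_eq_one, ← pow_succ]; exact e3 k
  have htg : t * g = g * t := comm_eq (rel (.cons ht <| .cons hg .nil) (.cons hg <| .cons ht .nil) comTG)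
  rw [hi]
  induction k with
  | zero =>
    calc t * e 0 * t⁻¹ = (e 0)⁻¹ * (e 0 * t * e 0) * t⁻¹ := by group
      _ = (e 0)⁻¹ := by rw [hx, mul_inv_cancel_right]
  | succ k ih =>
    have h1 : t * g⁻¹ = g⁻¹ * t := by
      calc t * g⁻¹ = g⁻¹ * (g * t) * g⁻¹ := by group
        _ = g⁻¹ * (t * g) * g⁻¹ := by rw [htg]
        _ = g⁻¹ * t := by group
    rw [e_pow]
    calc t * (g⁻¹ * e k * g) * t⁻¹ = (t * g⁻¹) * e k * (t * g⁻¹)⁻¹ := by group
      _ = (g⁻¹ * t) * e k * (g⁻¹ * t)⁻¹ := by rw [h1]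
      _ = g⁻¹ * (t * e k * t⁻¹) * g := by group
      _ = g⁻¹ * (e k)⁻¹ * g := by rw [ih]
      _ = (g⁻¹ * e k * g)⁻¹ := by group

theorem e0_ne : e 0 ≠ 1 := by
  intro h
  apply e1_ne
  rw [e_pow, h]
  group

/-- matrices of `g⁻¹` and `t` -/
def B : List (List (List ℕ)) :=
  [[[0, 1, 0, 0, 0], [0, 0, 1, 0, 0], [0, 0, 0, 1, 0], [0, 0, 0, 0, 1], [1, 1, 2, 1, 0]],
   [[2, 0, 0, 0, 0], [0, 2, 0, 0, 0], [0, 0, 2, 0, 0], [0, 0, 0, 2, 0], [0, 0, 0, 0, 2]]]

/-- words -/
def S : List (List ℕ) := [[], [0], [0, 0], [0, 0, 0], [0, 0, 0, 0], [0, 0, 0, 0, 0], [0, 0, 0, 0, 0, 0],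
  [1], [1, 0], [1, 0, 0], [1, 0, 0, 0], [1, 0, 0, 0, 0], [1, 0, 0, 0, 0, 0], [1, 0, 0, 0, 0, 0, 0]]

theorem ly_three : Orb 3 14 Cfsg.Spor.Ly := by
  refine Orb.of_gen (T := Cfsg.Spor.Ly) (by norm_num) 5 14 (by norm_num) x (fun k => if k = 0 then g⁻¹ else t) ?_ ?_ x_comm
    [1, 0, 0, 0, 0] ?_ B ?_ ?_ S ?_ (by decide +kernel)
  · intro i
    unfold x
    split_ifs
    · exact e3 i
    · exact one_pow 3
  · intro i hi
    unfold x
    rw [if_neg (by omega)]
  · have : pv x 0 [1, 0, 0, 0, 0] = e 0 := by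
      simp [pv, x]
    rw [this]
    exact e0_ne
  · intro b hb
    have : ∀ b ∈ B, b.length = 5 ∧ ∀ c ∈ b, c.length = 5 := by decide
    exact this b hb
  · intro k hk i hi
    have hB : B.length = 2 := rfl
    rw [hB] at hk
    interval_cases k
    · rw [if_pos rfl, inv_inv]
      interval_cases i
      · show g⁻¹ * e 0 * g = pv x 0 [0, 1, 0, 0, 0]
        rw [← e_pow]; simp [pv, x]
      · show g⁻¹ * e 1 * g = pv x 0 [0, 0, 1, 0, 0]
        rw [← e_pow]; simp [pv, x]
      · show g⁻¹ * e 2 * g = pv x 0 [0, 0, 0, 1, 0]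
        rw [← e_pow]; simp [pv, x]
      · show g⁻¹ * e 3 * g = pv x 0 [0, 0, 0, 0, 1]
        rw [← e_pow]; simp [pv, x]
      · show g⁻¹ * e 4 * g = pv x 0 [1, 1, 2, 1, 0]
        rw [← e_pow, e_five]; simp [pv, x, mul_assoc]
    · rw [if_neg (by norm_num)]
      interval_cases i
      · show t * e 0 * t⁻¹ = pv x 0 [2, 0, 0, 0, 0]
        rw [t_inv]; simp [pv, x]
      · show t * e 1 * t⁻¹ = pv x 0 [0, 2, 0, 0, 0]
        rw [t_inv]; simp [pv, x]
      · show t * e 2 * t⁻¹ = pv x 0 [0, 0, 2, 0, 0]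
        rw [t_inv]; simp [pv, x]
      · show t * e 3 * t⁻¹ = pv x 0 [0, 0, 0, 2, 0]
        rw [t_inv]; simp [pv, x]
      · show t * e 4 * t⁻¹ = pv x 0 [0, 0, 0, 0, 2]
        rw [t_inv]; simp [pv, x]
  · decide

end three

/-- **The Lyons group: degree at least 14.** -/
theorem ly_le {p : ℕ} (hp : p.Prime) {F : Type u} [Field F] [Finite F] [CharP F p] {n : ℕ}
    {P : Subgroup (GL (Fin n) F)} (hC : Core P) (e : Soc P ≃* Cfsg.Spor.Ly) : 14 ≤ n := by
  by_cases h5 : p = 5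
  · exact le_of_bd hC e Cfsg.Agent.S2050.result (r := 3) (by norm_num)
      (ly_three.bd (F := F) (by norm_num) (cast_ne (F := F) hp (by norm_num : (3 : ℕ).Prime) (by omega)))
  · have h := le_of_bd hC e Cfsg.Agent.S2050.result (r := 5) (by norm_num)
      (ly_five (F := F) (cast_ne (F := F) hp (by norm_num : (5 : ℕ).Prime) h5))
    omega

end Cfsg.Agent.H489.Deg.Ly
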