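import Cfsg.Agent.H489.DegBase
import Cfsg.Agent.H51.ONSeven
import Cfsg.Agent.S2052

/-!
# The O'Nan group has no projective representations of degree at most 13 (helper489)

Characteristic not 31: `31 : 15`. Characteristic 31: a group `7^(1+2)` with inverted centre.
-/

set_option autoImplicit false
set_option maxRecDepth 100000

universe u v

namespace Cfsg.Agent.H489.Deg.ON

open Cfsg
open Cfsg.Spor.ON (Gen)
open Cfsg.Agent.KFacts.MulSpor.ON (w w_append w_one w_cons w_iw iw okw rel eqw cj mats)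
open Cfsg.Agent.SporadicB.ON45Word (on LW)
open Cfsg.Agent.ONType.TupRow (rowNe ne_of_rowNe)
open Cfsg.Agent.H912.Bd Cfsg.Agent.H921.Spor Cfsg.Agent.H915.LD
open Matrix (GeneralLinearGroup)

/-- letters -/
def gn : ℕ → Gen
  | 0 => .a
  | 1 => .b
  | 2 => .c
  | 3 => .d
  | 4 => .e
  | 5 => .f
  | _ => .g

theorem hs : IsSimpleGroup Cfsg.Spor.ON := Cfsg.Agent.S1699.result.1

/-- the words -/
noncomputable def wd : Wd Cfsg.Spor.ON where
  W := fun u => w (u.map gn)
  nil := rfl
  app := fun u v => by rw [List.map_append, w_append]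
  eq := fun u v => okw (u.map gn ++ iw (v.map gn))
  eq_sound := fun h => eqw hs _ _ h
  ne := fun u => rowNe (mats (u.map gn)) (mats [])
  ne_sound := fun h => ne_of_rowNe (LW.word _) (LW.word []) h

/-- letters `b a e d ...` of the elements of order 7 -/
def wx : List ℕ := [1, 0, 4, 3, 2, 3, 2, 4, 3, 2, 5, 4]
def wy : List ℕ := [1, 3, 2, 1, 3, 2, 3, 2, 4, 3, 2, 1, 3, 2]
def wc : List ℕ := wx ++ wy ++ wx.reverse ++ wy.reverse

theorem on_thirtyone : Conf 31 15 Cfsg.Spor.ON :=
  wd.conf_prime (r := 31) (k := 10) [6, 4, 1, 3, 2] [0, 2, 6, 6, 6, 1, 2, 4, 3, 2, 6, 3, 4, 3, 2] 15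
    (by norm_num) (by decide +kernel) (by decide)

theorem c1 : wd.ne wc = true := by decide +kernel
theorem c2 : wd.eq (Wd.rep wc 7) [] = true := by decide +kernel
theorem c3 : wd.eq ([5, 1] ++ wc) (Wd.rep wc 6 ++ [5, 1]) = true := by decide +kernel
theorem c4 : wd.eq (wx ++ wc) (wc ++ wx) = true := by decide +kernel
theorem c5 : wd.eq (wy ++ wc) (wc ++ wy) = true := by decide +kernel
theorem c6 : wd.eq (Wd.rep wx 7) [] = true := by decide +kernel
theorem c7 : wd.eq (wx ++ wy) (wc ++ (wy ++ wx)) = true := by decide +kernel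

theorem chk : wd.chkX 7 6 wx wy wc [5, 1] = true := by
  unfold Wd.chkX
  rw [c1, c2, c3, c4, c5, c6, c7]
  rfl

theorem on_seven {F : Type u} [Field F] (h7 : ((7 : ℕ) : F) ≠ 0) : Bd F 7 (2 * 7) Cfsg.Spor.ON :=
  wd.bd_ext 2 (by norm_num) h7 chk (by decide)

/-- **The O'Nan group: degree at least 14.** -/
theorem on_le {p : ℕ} (hp : p.Prime) {F : Type u} [Field F] [Finite F] [CharP F p] {n : ℕ}
    {P : Subgroup (GL (Fin n) F)} (hC : Core P) (e : Soc P ≃* Cfsg.Spor.ON) : 14 ≤ n := by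
  by_cases h31 : p = 31
  · exact le_of_bd hC e Cfsg.Agent.S2052.result (r := 7) (by norm_num)
      (on_seven (F := F) (cast_ne (F := F) hp (by norm_num : (7 : ℕ).Prime) (by omega)))
  · have h := le_of_bd hC e Cfsg.Agent.S2052.result (r := 31) (by norm_num)
      (on_thirtyone.bd (F := F) (by norm_num) (cast_ne (F := F) hp (by norm_num : (31 : ℕ).Prime) h31))
    omega

end Cfsg.Agent.H489.Deg.ON
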