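import Cfsg.Agent.H489.DegBase
import Cfsg.Agent.H921.SporRu
import Cfsg.Agent.H51.RuOdd
import Cfsg.Agent.S2051

/-!
# The Rudvalis group has no projective representations of degree at most 12 (helper489)

Characteristic not 29: an element of order 29 with 14 different powers in its class (helper921). Characteristic 29: an
extraspecial group of order 125 whose centre is inverted to the power 4: degree at least 20.
-/

set_option autoImplicit false
set_option maxRecDepth 100000

universe u v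

namespace Cfsg.Agent.H489.Deg.Ru

open Cfsg Cfsg.Agent.SporadicB Cfsg.Agent.KFacts.RuDbl.Four
open Cfsg.Agent.H912.Bd Cfsg.Agent.H921.Spor Cfsg.Agent.H915.LD
open Matrix (GeneralLinearGroup)

/-- the words in the four involutions -/
noncomputable def wd4 : Wd RuOrder.H where
  W := W4
  nil := W4_nil
  app := W4_append
  eq := eqw4
  eq_sound := eqw4_sound
  ne := fun u => !(Nat.beq (ev4 u 0) 0)
  ne_sound := by
    intro u h h1
    have h2 := W4_apply (0 : Fin 4060) u
    rw [h1] at h2
    have h3 : ((((1 : RuOrder.H) : Equiv.Perm (Fin 4060)) (0 : Fin 4060) : Fin 4060) : ℕ) = 0 := rfl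
    rw [h3] at h2
    have h4 : ((0 : Fin 4060) : ℕ) = 0 := rfl
    rw [h4] at h2
    rw [← h2] at h
    simp at h

/-- the two elements of order 5 -/
def wa : List ℕ := [1, 3, 1, 3, 1] ++ [0, 3, 0, 1, 3, 1, 0, 1, 0, 1, 3, 1, 0, 3, 0]
def wb : List ℕ := [1, 3, 1, 3, 1] ++ [3, 0, 1, 0, 2, 1, 3, 1, 3, 1, 2, 0, 1, 0, 3]
def wz : List ℕ := wa ++ wb ++ wa.reverse ++ wb.reverse
def wy : List ℕ := [1, 2, 3, 1, 2, 3, 1, 2, 3, 1, 0, 3, 1, 3, 2, 3, 1]

theorem ru_five {F : Type u} [Field F] (h5 : (5 : F) ≠ 0) : Bd F 5 20 Cfsg.Spor.Ru :=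
  (wd4.bd_ext (r := 5) (a := wa) (b := wb) (z := wz) (y := wy) (k := 2) 4 (by norm_num) (by exact_mod_cast h5)
    (by decide +kernel) (by decide)).of_sub RuLat.Main.equiv.symm.toMonoidHom RuLat.Main.equiv.symm.injective

/-- **The Rudvalis group: degree at least 14.** -/
theorem ru_le {p : ℕ} (hp : p.Prime) {F : Type u} [Field F] [Finite F] [CharP F p] {n : ℕ}
    {P : Subgroup (GL (Fin n) F)} (hC : Core P) (e : Soc P ≃* Cfsg.Spor.Ru) : 14 ≤ n := by
  by_cases h29 : p = 29
  · have h := le_of_bd hC e Cfsg.Agent.S2051.result (r := 5) (by norm_num)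
      (ru_five (F := F) (by exact_mod_cast cast_ne (F := F) hp (by norm_num : (5 : ℕ).Prime) (by omega)))
    omega
  · exact le_of_bd hC e Cfsg.Agent.S2051.result (r := 29) (by norm_num)
      (Ru.Ru_twentynine.bd (F := F) (by norm_num) (cast_ne (F := F) hp (by norm_num : (29 : ℕ).Prime) h29))

end Cfsg.Agent.H489.Deg.Ru
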