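import Cfsg.Agent.H489.DegBase
import Cfsg.Agent.Th.Main1700
import Cfsg.Agent.Th.KPerm
import Cfsg.Agent.S2057

/-!
# The Thompson group has no projective representations of degree at most 12 (helper489)

Both configurations are in `³D₄(2) : 3` (words, checked in its representation of degree 819). Characteristic not 7: `7²`
with orbits of length 24. Characteristic 7: an elementary abelian subgroup `2⁵` of `2^(1+8)`.
-/

set_option autoImplicit false
set_option maxRecDepth 100000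

universe u v

namespace Cfsg.Agent.H489.Deg.Th

open Cfsg
open Cfsg.Agent.Th.Word Cfsg.Agent.Th.KOracle Cfsg.Agent.Th.KPerm Cfsg.Agent.Th.PermTab Cfsg.Agent.Th.RelWords
open Cfsg.Agent.Th.IndexUpper (gTh gTh_inv gTh_relK)
open Cfsg.Agent.H912.Bd Cfsg.Agent.H921.Spor Cfsg.Agent.H915.LD
open Matrix (GeneralLinearGroup)

/-- a word which moves the point 0, 1 or 39 is not trivial -/
theorem ne_of {u : List ℕ} (hu : allL isK u = true) {p : ℕ} (hp : p < 819) (h : tr act u p ≠ p) : ev gTh u ≠ 1 := by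
  intro h1
  have hu' := (allL_iff _ _).1 hu
  obtain ⟨φ, hφ, hφ2⟩ := exists_hom (γ := gTh) gTh_inv gTh_relK Cfsg.Agent.Th.Main1700.final.2.2.1
  have h2 := hφ2 u hu'
  have h3 : (⟨ev gTh u, ev_mem_sub hu'⟩ : sub gTh isK) = 1 := Subtype.ext h1
  rw [h3, map_one] at h2
  have h4 := ev_rho_inv_apply isTab hu' ⟨p, hp⟩
  rw [← h2, inv_one] at h4
  exact h h4.symm

/-- the words -/
noncomputable def w : Wd Cfsg.Spor.Th where
  W := fun u => ev gTh u
  nil := ev_nil _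
  app := fun u v => ev_append _ u v
  eq := fun u v => korc (u ++ iw v)
  eq_sound := by
    intro u v h
    have h1 := korc_sound boundK gTh_inv gTh_relK h
    rw [ev_append, ev_iw gTh_inv] at h1
    exact mul_inv_eq_one.1 h1
  ne := fun u => allL isK u && !(Nat.beq (tr act u 0) 0 && (Nat.beq (tr act u 1) 1 && Nat.beq (tr act u 39) 39))
  ne_sound := by
    intro u h
    rw [Bool.and_eq_true] at h
    by_cases h0 : tr act u 0 = 0
    · by_cases h1 : tr act u 1 = 1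
      · refine ne_of h.1 (p := 39) (by norm_num) ?_
        intro h2
        rw [h0, h1, h2] at h
        exact absurd h.2 (by decide)
      · exact ne_of h.1 (p := 1) (by norm_num) h1
    · exact ne_of h.1 (p := 0) (by norm_num) h0

theorem th_seven : Orb 7 13 Cfsg.Spor.Th :=
  w.orb_gen (r := 7) (d := 2) (m := 13)
    (X := [[6, 6], [2, 3, 4, 3, 4]])
    (G := [[8], [2, 4], [1, 2, 1, 3],
      [3, 5, 4, 7, 5, 4, 3, 2, 4, 3, 7, 5, 4, 3, 6, 5, 4, 2, 3, 5, 4, 3, 6, 5, 6, 8]])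
    (B := [[[4, 0], [0, 1]], [[6, 0], [0, 6]], [[1, 0], [0, 4]], [[5, 1], [2, 4]]])
    (S := [[], [1], [3, 2], [2, 3], [2, 0], [1, 0], [0, 0], [3, 3, 0], [3, 2, 3], [3, 0, 0], [0, 3, 0], [2, 3, 2, 1],
      [2, 3, 2, 0]]) (c₀ := [1, 0])
    (by norm_num) (by decide +kernel)

theorem th_two : Orb 2 16 Cfsg.Spor.Th :=
  w.orb_gen (r := 2) (d := 5) (m := 16)
    (X := [[1],
      [1, 7, 5, 4, 3, 4, 5, 6],
      [3, 4, 3, 5, 7, 5, 4, 3, 4, 6, 5, 4, 3, 4, 7, 5, 6, 4],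
      [2, 1, 3, 2, 7, 5, 4, 3, 4, 6, 5, 4, 3, 2, 4, 3, 7, 1, 2, 5, 6],
      [2, 1, 3, 2, 1, 4, 3, 4, 5, 4, 3, 2, 1, 4, 3, 2]])
    (G := [[5, 4, 3, 4, 5],
      [5, 4, 3, 4, 3, 5],
      [8, 7, 5, 4, 3, 4, 3, 5, 6, 9],
      [3, 6, 5, 4, 3, 4, 5, 7]])
    (B := [[[1, 0, 0, 0, 0], [1, 1, 0, 0, 0], [0, 0, 1, 0, 0], [0, 0, 0, 1, 0], [0, 0, 0, 0, 1]],
      [[1, 0, 0, 0, 0], [0, 1, 0, 0, 0], [1, 0, 1, 0, 0], [0, 0, 0, 1, 0], [0, 0, 0, 0, 1]],
      [[1, 0, 0, 0, 0], [0, 1, 0, 0, 0], [0, 0, 1, 0, 0], [1, 0, 0, 1, 0], [0, 0, 0, 0, 1]],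
      [[1, 0, 0, 0, 0], [0, 1, 0, 0, 0], [0, 0, 1, 0, 0], [0, 0, 0, 1, 0], [1, 0, 0, 0, 1]]])
    (S := [[], [0], [1], [2], [3], [0, 1], [0, 2], [0, 3], [1, 2], [1, 3], [2, 3], [0, 1, 2], [0, 1, 3], [0, 2, 3], [1, 2, 3], [0, 1, 2, 3]]) (c₀ := [1, 0, 0, 0, 0])
    (by norm_num) (by decide +kernel)

/-- **The Thompson group: degree at least 13.** -/
theorem th_le {p : ℕ} (hp : p.Prime) {F : Type u} [Field F] [Finite F] [CharP F p] {n : ℕ}
    {P : Subgroup (GL (Fin n) F)} (hC : Core P) (e : Soc P ≃* Cfsg.Spor.Th) : 13 ≤ n := by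
  by_cases h7 : p = 7
  · have h := le_of_bd hC e Cfsg.Agent.S2057.result (r := 2) (by norm_num)
      (th_two.bd (F := F) (by norm_num) (cast_ne (F := F) hp Nat.prime_two (by omega)))
    omega
  · exact le_of_bd hC e Cfsg.Agent.S2057.result (r := 7) (by norm_num)
      (th_seven.bd (F := F) (by norm_num) (cast_ne (F := F) hp (by norm_num : (7 : ℕ).Prime) h7))

end Cfsg.Agent.H489.Deg.Th
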