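import Cfsg.Agent.H489.DegHS2
import Cfsg.Agent.HN.TwoClasses
import Cfsg.Agent.S2056

/-!
# The Harada–Norton group has no projective representations of degree at most 12 (helper489)

Everything happens in the subgroup `2.HS` of the centraliser `2.HS.2` of an involution. Odd characteristic: the
configuration of `DegHS2`. Characteristic 2: a group `5^(1+2)` with the normaliser of order 4 of its centre.
-/

set_option autoImplicit false
set_option maxRecDepth 100000

universe u v

namespace Cfsg.Agent.H489.Deg.HN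

open Cfsg Cfsg.Agent.HN.HS100 Cfsg.Agent.HN.H0Basic
open Cfsg.Agent.H912.Bd Cfsg.Agent.H921.Spor Cfsg.Agent.H915.LD
open Matrix (GeneralLinearGroup)

/-- the embedding of `2.HS` -/
noncomputable def emb : K →* Cfsg.Spor.HN := Cfsg.Agent.HN.NormalH.ψ.comp K.subtype

theorem emb_injective : Function.Injective emb :=
  Cfsg.Agent.HN.TwoClasses.ψ_inj.comp K.subtype_injective

theorem hn_two : Orb 2 13 Cfsg.Spor.HN := HS2.orb_K.of_inj emb emb_injective

theorem hn_five {F : Type u} [Field F] (h5 : ((5 : ℕ) : F) ≠ 0) : Bd F 5 (4 * 5) Cfsg.Spor.HN :=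
  (HS2.wd.bd_ext (r := 5) (k := 2)
    (a := [0, 3, 0, 2, 0, 7, 7, 4, 7, 7, 4, 7, 5, 3, 0])
    (b := [0, 7, 3, 3, 7, 4, 6, 6])
    (z := [3, 0, 7, 5, 6, 6, 2, 2, 7, 7, 3, 0, 3, 7, 3, 0])
    (y := [2, 0, 2, 2, 6, 6, 2, 0, 2, 0, 2, 2, 2])
    4 (by norm_num) h5 (by decide +kernel) (by decide)).of_sub emb emb_injective

/-- **The Harada–Norton group: degree at least 13.** -/
theorem hn_le {p : ℕ} (hp : p.Prime) {F : Type u} [Field F] [Finite F] [CharP F p] {n : ℕ}
    {P : Subgroup (GL (Fin n) F)} (hC : Core P) (e : Soc P ≃* Cfsg.Spor.HN) : 13 ≤ n := by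
  by_cases h2 : p = 2
  · have h := le_of_bd hC e Cfsg.Agent.S2056.result (r := 5) (by norm_num)
      (hn_five (F := F) (cast_ne (F := F) hp (by norm_num : (5 : ℕ).Prime) (by omega)))
    omega
  · exact le_of_bd hC e Cfsg.Agent.S2056.result (r := 2) (by norm_num)
      (hn_two.bd (F := F) (by norm_num) (cast_ne (F := F) hp Nat.prime_two h2))

end Cfsg.Agent.H489.Deg.HN
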