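import Cfsg.Agent.H489.DegBase
import Cfsg.Agent.H58.HeOdd
import Cfsg.Agent.KFacts.He.Lv
import Cfsg.Agent.S2049

/-!
# The Held group has no projective representations of degree at most 12 (helper489)

Characteristic not 7: a group `7^(1+2)` with six conjugates of a generator of its centre in it. Characteristic 7: the
24 characters of `5²` are conjugate.
-/

set_option autoImplicit false
set_option maxRecDepth 100000

universe u v

namespace Cfsg.Agent.H489.Deg.He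

open Cfsg
open Cfsg.Spor.He (Gen)
open Cfsg.Agent.SporadicB.HePerm (wd)
open Cfsg.Agent.FixBN.HeStab (chkB eq_of_chkB)
open Cfsg.Agent.H58.HeOdd (wd_app ne_of_chkB)
open Cfsg.Agent.H912.Bd Cfsg.Agent.H921.Spor Cfsg.Agent.H915.LD
open Matrix (GeneralLinearGroup)

/-- letters -/
def gn : ℕ → Gen
  | 0 => .a
  | 1 => .b
  | 2 => .c
  | 3 => .d
  | 4 => .e
  | 5 => .f
  | _ => .g

/-- the words -/
noncomputable def w : Wd Cfsg.Spor.He where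
  W := fun u => wd (u.map gn)
  nil := rfl
  app := fun u v => by rw [List.map_append, wd_app]
  eq := fun u v => chkB (u.map gn) (v.map gn)
  eq_sound := fun h => eq_of_chkB h
  ne := fun u => !(chkB (u.map gn) [])
  ne_sound := by
    intro u h
    have h1 : chkB (u.map gn) [] = false := by simpa using h
    exact ne_of_chkB h1

theorem he_seven {F : Type u} [Field F] (h7 : ((7 : ℕ) : F) ≠ 0) : Bd F 7 (6 * 7) Cfsg.Spor.He :=
  w.bd_ext (r := 7) (k := 3)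
    (a := [3, 5, 1, 2, 3, 4, 2, 3, 6, 4, 3, 2, 3, 0, 1])
    (b := [5, 6, 3, 2, 1, 3, 5, 6, 3, 2, 3, 1, 2, 3, 6, 3, 5, 2, 3, 4, 2])
    (z := [3, 5, 1, 2, 3, 4, 2, 3, 6, 4, 3, 2, 3, 0, 1, 5, 6, 3, 2, 1, 3, 5, 6, 3, 2, 3, 1, 2, 3, 6, 3, 5, 2, 3, 4, 2, 1, 0, 3, 2, 3, 4, 6, 3, 2, 4, 3, 2, 1, 5, 3, 2, 4, 3, 2, 5, 3, 6, 3, 2, 1, 3, 2, 3, 6, 5, 3, 1, 2, 3, 6, 5])
    (y := [5, 3, 2, 3, 1, 2, 3, 6, 3, 1, 2, 3, 2, 0, 1])
    6 (by norm_num) h7 (by decide +kernel) (by decide)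

theorem he_five : Orb 5 13 Cfsg.Spor.He :=
  w.orb_gen (r := 5) (d := 2) (m := 13)
    (X := [[1, 3, 5, 6, 2, 3, 5, 0, 1, 2, 3, 1, 2, 3, 5, 2],
      [2, 1, 6, 3, 2, 3, 4, 2, 3, 1, 2, 3, 5, 4, 2, 3, 2, 3, 1, 2, 0]])
    (G := [[2, 1, 0, 6, 5, 3, 2, 3, 1, 2, 3, 5, 1, 2, 3, 6, 0, 1, 2, 3, 5, 4],
      [6, 3, 5, 3, 4, 1, 2, 3, 1, 2, 3, 6, 3, 1, 2, 3, 2, 3, 1],
      [6, 5, 2, 3, 4, 2, 3, 5, 1, 2, 3, 1, 2, 3, 5, 6, 3, 0, 1],
      [5, 1, 2, 3, 6, 1, 2, 3, 2, 3, 6, 2, 3, 5, 1, 2, 1]])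
    (B := [[[2, 0], [0, 2]], [[0, 1], [1, 2]], [[2, 2], [1, 3]], [[3, 3], [4, 2]]])
    (S := [[], [0], [1], [0, 0], [1, 0], [1, 2], [3, 1, 1], [0, 0, 0], [2, 1, 1], [1, 2, 0], [1, 1, 0], [1, 1, 3], [1, 2, 1]]) (c₀ := [1, 0])
    (by norm_num) (by decide +kernel)

/-- **The Held group: degree at least 13.** -/
theorem he_le {p : ℕ} (hp : p.Prime) {F : Type u} [Field F] [Finite F] [CharP F p] {n : ℕ}
    {P : Subgroup (GL (Fin n) F)} (hC : Core P) (e : Soc P ≃* Cfsg.Spor.He) : 13 ≤ n := by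
  by_cases h7 : p = 7
  · exact le_of_bd hC e Cfsg.Agent.S2049.result (r := 5) (by norm_num)
      (he_five.bd (F := F) (by norm_num) (cast_ne (F := F) hp (by norm_num : (5 : ℕ).Prime) (by omega)))
  · have h := le_of_bd hC e Cfsg.Agent.S2049.result (r := 7) (by norm_num)
      (he_seven (F := F) (cast_ne (F := F) hp (by norm_num : (7 : ℕ).Prime) h7))
    omega

end Cfsg.Agent.H489.Deg.He
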