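import Cfsg.Agent.H921.SporGen

/-!
# Abelian configurations of exponent `r ^ κ` by linear algebra (helper489)

The same as `Orb.of_lin`, for commuting elements with `x i ^ r ^ κ = 1` and relations `R` between them.
-/

set_option autoImplicit false

universe u v w

namespace Cfsg.Agent.H921.Spor

variable {r : ℕ} {T : Type v} [Group T]

theorem Orb.of_lin_pow (hr : r.Prime) (κ : ℕ) (d M m : ℕ) (x s : ℕ → T) (hx : ∀ i, x i ^ r ^ κ = 1)
    (hxd : ∀ i, d ≤ i → x i = 1) (hc : ∀ i j, x i * x j = x j * x i) (c₀ : List ℕ) (h₀ : pv x 0 c₀ ≠ 1)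
    (R : List (List ℕ)) (hR : ∀ ρ ∈ R, pv x 0 ρ = 1) (A : ℕ → List (List ℕ))
    (hAl : ∀ j < M, (A j).length = d)
    (hA : ∀ j < M, ∀ i < d, s j * x i * (s j)⁻¹ = pv x 0 ((A j).getD i []))
    (hd : (vecs (r ^ κ) d).all (fun χ => R.any (fun ρ => !(Nat.beq (dot χ ρ % r ^ κ) 0)) ||
      (Nat.beq (dot χ c₀ % r ^ κ) 0 ||
      Nat.ble m (cnt ((List.range M).map fun j => enc (r ^ κ) χ (A j))))) = true) : Orb r m T := by
  classical
  have hqpos : 0 < r ^ κ := pow_pos hr.pos κ
  set E : Subgroup T := Subgroup.closure (Set.range x) with hEdef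
  have hxE : ∀ i, x i ∈ E := fun i => Subgroup.subset_closure ⟨i, rfl⟩
  have hE : ∀ u ∈ E, ∀ v ∈ E, u * v = v * u := by
    have hcomm : ∀ u ∈ Set.range x, ∀ v ∈ Set.range x, u * v = v * u := by
      rintro _ ⟨i, rfl⟩ _ ⟨j, rfl⟩
      exact hc i j
    intro u hu v hv
    have h1 : IsMulCommutative E := Subgroup.isMulCommutative_closure hcomm
    exact congrArg Subtype.val (h1.is_comm.comm (⟨u, hu⟩ : E) ⟨v, hv⟩)
  have hpow : ∀ u ∈ E, u ^ r ^ κ = 1 := by
    intro u hu
    induction hu using Subgroup.closure_induction with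
    | mem y hy =>
      obtain ⟨i, rfl⟩ := hy
      exact hx i
    | one => simp
    | mul y z hy hz h1 h2 =>
      have : Commute y z := hE y hy z hz
      rw [this.mul_pow, h1, h2, one_mul]
    | inv y hy h1 => rw [inv_pow, h1, inv_one]
  have hfinr : (Set.range x).Finite := by
    apply ((Set.finite_range (fun k : Fin d => x k)).union (Set.finite_singleton (1 : T))).subset
    rintro _ ⟨i, rfl⟩
    by_cases hi : i < d
    · exact Or.inl ⟨⟨i, hi⟩, rfl⟩
    · exact Or.inr (hxd i (by omega))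
  have hfin : Finite E := by
    have h2 : Group.FG E := by
      rw [Group.fg_iff_subgroup_fg]
      exact ⟨hfinr.toFinset, by rw [hEdef, Set.Finite.coe_toFinset]⟩
    let _ : CommGroup E := { (inferInstance : Group E) with mul_comm := fun u v => Subtype.ext (hE u u.2 v v.2) }
    have h3 : IsMulTorsion E := by
      intro u
      rw [isOfFinOrder_iff_pow_eq_one]
      exact ⟨r ^ κ, hqpos, Subtype.ext (hpow u u.2)⟩
    exact CommGroup.finite_of_fg_isMulTorsion E h3
  have hpvE : ∀ (l : List ℕ) (i : ℕ), pv x i l ∈ E := by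
    intro l
    induction l with
    | nil => intro i; exact E.one_mem
    | cons a l ih => intro i; exact E.mul_mem (E.pow_mem (hxE i) a) (ih _)
  have hpv1 : ∀ (l : List ℕ) (i : ℕ), d ≤ i → pv x i l = 1 := by
    intro l
    induction l with
    | nil => intro i _; rfl
    | cons a l ih =>
      intro i hi
      change x i ^ a * pv x (i + 1) l = 1
      rw [hxd i hi, ih (i + 1) (by omega), one_pow, one_mul]
  -- the `s j` normalise `E`
  have hnorm : ∀ j < M, ∀ e ∈ E, s j * e * (s j)⁻¹ ∈ E := by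
    intro j hj e he
    induction he using Subgroup.closure_induction with
    | mem y hy =>
      obtain ⟨i, rfl⟩ := hy
      by_cases hi : i < d
      · rw [hA j hj i hi]; exact hpvE _ _
      · rw [hxd i (by omega)]; simp
    | one => simp
    | mul y z hy hz h1 h2 =>
      have := E.mul_mem h1 h2
      convert this using 1
      group
    | inv y hy h1 =>
      have := E.inv_mem h1
      convert this using 1
      group
  refine ⟨E, pv x 0 c₀, κ, hfin, hE, hpow, hpvE _ _, h₀, ?_⟩
  intro f hf hf0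
  have hf1 : f 1 = 0 := by
    have := hf 1 E.one_mem 1 E.one_mem
    rw [mul_one] at this
    exact left_eq_add.1 this
  have hfpow : ∀ e ∈ E, ∀ a : ℕ, f (e ^ a) = a * f e := by
    intro e he a
    induction a with
    | zero => rw [pow_zero, hf1]; simp
    | succ a ih =>
      rw [pow_succ, hf _ (E.pow_mem he a) _ he, ih]
      push_cast
      ring
  have hrpos : NeZero (r ^ κ) := ⟨hqpos.ne'⟩
  let g : ℕ → ℕ := fun i => (f (x i)).val
  have hg : ∀ i, ((g i : ℕ) : ZMod (r ^ κ)) = f (x i) := fun i => ZMod.natCast_zmod_val _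
  have hglt : ∀ i, g i < r ^ κ := fun i => ZMod.val_lt _
  have hdot : ∀ (l : List ℕ) (i n : ℕ), i + n = d → f (pv x i l) = (dot (vals g i n) l : ℕ) := by
    intro l
    induction l with
    | nil =>
      intro i n _
      change f 1 = _
      rw [hf1]
      cases n <;> simp [vals, dot]
    | cons a l ih =>
      intro i n hin
      cases n with
      | zero =>
        rw [hpv1 _ i (by omega), hf1]
        simp [vals, dot]
      | succ n =>
        change f (x i ^ a * pv x (i + 1) l) = _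
        rw [hf _ (E.pow_mem (hxE i) a) _ (hpvE _ _), hfpow _ (hxE i), ih (i + 1) n (by omega)]
        simp only [vals, dot]
        push_cast
        rw [hg]
        ring
  have h1 := List.all_eq_true.1 hd (vals g 0 d) (mem_vecs (length_vals g 0 d) (lt_of_mem_vals hglt 0 d))
  rw [Bool.or_eq_true, Bool.or_eq_true] at h1
  have h2 : Nat.ble m (cnt ((List.range M).map fun j => enc (r ^ κ) (vals g 0 d) (A j))) = true := by
    have h1 := h1.resolve_left (by
      intro h3
      rw [List.any_eq_true] at h3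
      obtain ⟨ρ, hρ, h3⟩ := h3
      have h4 := hdot ρ 0 d (by omega)
      rw [hR ρ hρ, hf1] at h4
      have h5 := ((ZMod.natCast_eq_zero_iff _ _).1 h4.symm)
      rw [Nat.mod_eq_zero_of_dvd h5] at h3
      exact absurd h3 (by decide))
    refine h1.resolve_left ?_
    intro h3
    apply hf0
    rw [hdot c₀ 0 d (by omega)]
    have h4 := Nat.eq_of_beq_eq_true h3
    rw [ZMod.natCast_eq_zero_iff]
    exact Nat.dvd_of_mod_eq_zero h4
  have h3 : m ≤ ((List.range M).map fun j => enc (r ^ κ) (vals g 0 d) (A j)).toFinset.card :=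
    le_trans (Nat.le_of_ble_eq_true h2) (cnt_le _)
  obtain ⟨I, hI1, hI2⟩ := Finset.exists_subset_card_eq h3
  have h4 : ∀ y ∈ I, ∃ j, j < M ∧ enc (r ^ κ) (vals g 0 d) (A j) = y := by
    intro y hy
    have := List.mem_toFinset.1 (hI1 hy)
    obtain ⟨j, hj, hjy⟩ := List.mem_map.1 this
    exact ⟨j, List.mem_range.1 hj, hjy⟩
  choose! τ hτ1 hτ2 using h4
  -- different encodings give different functions
  have key : ∀ y ∈ I, ∀ z ∈ I, y ≠ z → ∃ i < d,
      f (s (τ y) * x i * (s (τ y))⁻¹) ≠ f (s (τ z) * x i * (s (τ z))⁻¹) := by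
    intro y hy z hz hyz
    by_contra hcon
    push Not at hcon
    apply hyz
    rw [← hτ2 y hy, ← hτ2 z hz]
    apply enc_eq
    · rw [hAl _ (hτ1 y hy), hAl _ (hτ1 z hz)]
    · intro i hi
      rw [hAl _ (hτ1 y hy)] at hi
      have h5 := hcon i hi
      rw [hA _ (hτ1 y hy) i hi, hA _ (hτ1 z hz) i hi, hdot _ 0 d (by omega), hdot _ 0 d (by omega),
        ZMod.natCast_eq_natCast_iff] at h5
      exact h5
  refine ⟨I.image (fun y => s (τ y)), ?_, ?_, ?_⟩
  · rw [Finset.card_image_of_injOn, hI2]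
    intro y hy z hz hyz
    by_contra hne
    obtain ⟨i, -, h5⟩ := key y hy z hz hne
    apply h5
    simp only at hyz
    rw [hyz]
  · intro u hu e he
    obtain ⟨y, hy, rfl⟩ := Finset.mem_image.1 hu
    exact hnorm _ (hτ1 y hy) e he
  · intro u hu v hv huv
    obtain ⟨y, hy, rfl⟩ := Finset.mem_image.1 hu
    obtain ⟨z, hz, rfl⟩ := Finset.mem_image.1 hv
    obtain ⟨i, -, h5⟩ := key y hy z hz (fun h => huv (by rw [h]))
    exact ⟨x i, hxE i, h5⟩

namespace Wd

variable (w : Wd T)

/-- The conditions of `Orb.of_lin_pow`. -/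
def chkQ (r κ d M m : ℕ) (X R S : List (List ℕ)) (Al : List (List (List ℕ))) (c₀ : List ℕ) : Bool :=
  Nat.beq X.length d &&
  (X.all fun P => w.eq (rep P (r ^ κ)) []) &&
  (X.all fun P => X.all fun Q => w.eq (P ++ Q) (Q ++ P)) &&
  w.ne (pvW X 0 c₀) &&
  (R.all fun ρ => w.eq (pvW X 0 ρ) []) &&
  ((List.range M).all fun j => Nat.beq (Al.getD j []).length d &&
    (List.range d).all fun i => w.eq (S.getD j [] ++ X.getD i [])
      (pvW X 0 ((Al.getD j []).getD i []) ++ S.getD j [])) &&
  ((vecs (r ^ κ) d).all (fun χ => R.any (fun ρ => !(Nat.beq (dot χ ρ % r ^ κ) 0)) ||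
      (Nat.beq (dot χ c₀ % r ^ κ) 0 ||
      Nat.ble m (cnt ((List.range M).map fun j => enc (r ^ κ) χ (Al.getD j []))))))

theorem orb_pow {r κ d M m : ℕ} {X R S : List (List ℕ)} {Al : List (List (List ℕ))} {c₀ : List ℕ} (hr : r.Prime)
    (h : w.chkQ r κ d M m X R S Al c₀ = true) : Orb r m T := by
  unfold chkQ at h
  simp only [Bool.and_eq_true] at h
  obtain ⟨⟨⟨⟨⟨⟨hXd, hXr⟩, hXc⟩, hc₀⟩, hR⟩, hA⟩, hd⟩ := h
  have hXd' := Nat.eq_of_beq_eq_true hXd
  refine Orb.of_lin_pow hr κ d M m (fun i => w.W (X.getD i []))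
    (fun j => w.W (S.getD j [])) ?_ ?_ ?_ c₀ ?_ R ?_ (fun j => Al.getD j []) ?_ ?_ hd
  · intro i
    rcases mem_or_getD (X := X) i with h1 | h1
    · rw [← W_rep, w.eq_sound (List.all_eq_true.1 hXr _ h1), w.nil]
    · rw [h1, w.nil, one_pow]
  · intro i hi
    rw [List.getD_eq_default _ _ (by omega), w.nil]
  · intro i j
    rcases mem_or_getD (X := X) i with h1 | h1
    · rcases mem_or_getD (X := X) j with h2 | h2
      · rw [← w.app, w.eq_sound (List.all_eq_true.1 (List.all_eq_true.1 hXc _ h1) _ h2), w.app]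
      · rw [h2, w.nil, mul_one, one_mul]
    · rw [h1, w.nil, mul_one, one_mul]
  · rw [← w.W_pvW]
    exact w.ne_sound hc₀
  · intro ρ hρ
    rw [← w.W_pvW, w.eq_sound (List.all_eq_true.1 hR _ hρ), w.nil]
  · intro j hj
    have h1 := List.all_eq_true.1 hA j (List.mem_range.2 hj)
    rw [Bool.and_eq_true] at h1
    exact Nat.eq_of_beq_eq_true h1.1
  · intro j hj i hi
    have h1 := List.all_eq_true.1 hA j (List.mem_range.2 hj)
    rw [Bool.and_eq_true] at h1
    have h2 := w.eq_sound (List.all_eq_true.1 h1.2 i (List.mem_range.2 hi))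
    rw [mul_inv_eq_iff_eq_mul, ← w.W_pvW, ← w.app, h2, w.app]

end Wd

end Cfsg.Agent.H921.Spor
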