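import Cfsg.Agent.H489.DegBase
import Cfsg.Agent.H489.OrbPow
import Cfsg.Agent.HN.CoverUnique

/-!
# The double cover of the Higman–Sims group has no faithful representations of degree at most 12 (helper489)

The preimage `E ≅ 4³ × 2` of `4³ : L₃(2)`: the characters of `E` which do not vanish on a certain involution of `E` have
orbits of length at least 14 under the normaliser of `E`.
-/

set_option autoImplicit false
set_option maxRecDepth 100000

universe u v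

namespace Cfsg.Agent.H489.Deg.HS2

open Cfsg Cfsg.Agent.HN.HS100 Cfsg.Agent.HN.P1408 Cfsg.Agent.HN.Pres Cfsg.Agent.HN.H0Basic
open Cfsg.Agent.H912.Bd Cfsg.Agent.H921.Spor Cfsg.Agent.H915.LD
open Matrix (GeneralLinearGroup)

/-- letters for the generators `x, y, zxz, zyz` of the double cover and their inverses -/
def ex : ℕ → List ℕ
  | 0 => [0]
  | 1 => [1]
  | 2 => [2]
  | 3 => [3]
  | 4 => [4, 0, 4]
  | 5 => [4, 1, 4]
  | 6 => [4, 2, 4]
  | 7 => [4, 3, 4]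
  | _ => []

theorem z_inv : (gz : H0)⁻¹ = gz := by
  rw [inv_eq_iff_mul_eq_one, ← pow_two]
  exact rels_H0.r7

theorem conj_mem {a : List ℕ} (h : hw a ∈ K) : hw ([4] ++ a ++ [4]) ∈ K := by
  rw [hw_append, hw_append, hw_z]
  have := K_normal.conj_mem _ h gz
  rwa [z_inv] at this

theorem mem_ex (l : ℕ) : hw (ex l) ∈ K := by
  have h0 : hw [0] ∈ K := by rw [hw_x]; exact gx_mem
  have h1 : hw [1] ∈ K := by rw [hw_xi]; exact K.inv_mem gx_mem
  have h2 : hw [2] ∈ K := by rw [hw_y]; exact gy_mem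
  have h3 : hw [3] ∈ K := by rw [hw_yi]; exact K.inv_mem gy_mem
  unfold ex
  split
  · exact h0
  · exact h1
  · exact h2
  · exact h3
  · exact conj_mem h0
  · exact conj_mem h1
  · exact conj_mem h2
  · exact conj_mem h3
  · rw [hw_nil]; exact K.one_mem

/-- expansion of a word -/
def exW (u : List ℕ) : List ℕ := u.flatMap ex

theorem mem_exW (u : List ℕ) : hw (exW u) ∈ K := by
  induction u with
  | nil => rw [exW, List.flatMap_nil, hw_nil]; exact K.one_mem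
  | cons l u ih =>
    have h : exW (l :: u) = ex l ++ exW u := List.flatMap_cons
    rw [h, hw_append]
    exact K.mul_mem (mem_ex l) ih

/-- the words -/
noncomputable def wd : Wd K where
  W := fun u => ⟨hw (exW u), mem_exW u⟩
  nil := Subtype.ext hw_nil
  app := by
    intro u v
    apply Subtype.ext
    change hw (exW (u ++ v)) = hw (exW u) * hw (exW v)
    rw [← hw_append]
    congr 1
    exact List.flatMap_append
  eq := fun u v => eqw (exW u) (exW v)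
  eq_sound := fun h => Subtype.ext (hw_eq h)
  ne := fun u => okw (exW u) && !(Nat.beq (tr (exW u) 0) 0)
  ne_sound := by
    intro u h h1
    rw [Bool.and_eq_true] at h
    have h2 : hw (exW u) ≠ hw [] := hw_ne (p := 0) h.1 rfl (by norm_num) (by
      rw [tr_nil]
      intro h3
      rw [h3] at h
      exact absurd h.2 (by decide))
    exact h2 (by rw [hw_nil]; exact congrArg Subtype.val h1)

/-- generators of `E` -/
def xW : List (List ℕ) := [
  [3, 3, 0, 3, 0, 2, 0, 2, 0, 3, 0, 3, 1, 2, 4, 6, 4, 6, 4],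
  [0, 2, 2, 2, 6, 6, 6, 4, 2, 2, 1, 3, 3, 0, 3, 0, 2, 2, 2],
  [6, 2, 0, 2, 0, 2, 2, 2, 7, 3, 3, 0, 7, 3, 0, 3, 3],
  [0, 0]]
/-- elements of the normaliser of `E` -/
def sW : List (List ℕ) := [
  [],
  [2, 0, 7, 4, 7, 7, 4, 6, 2, 1],
  [7, 7, 4, 6, 4, 6, 5, 6, 2, 7, 3],
  [7, 7, 4, 6, 6, 4, 6, 4, 3],
  [0, 2, 2, 0, 6, 6, 6, 4, 6, 5, 7],
  [0, 3, 3, 6, 6, 2, 0, 6, 5, 3, 3],
  [2, 0, 2, 0, 3, 0, 3, 3, 0, 6, 2, 2, 1, 3, 3, 0, 2, 0],
  [7, 4, 6, 5, 6, 2, 7, 3],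
  [3, 0, 3, 0, 2, 6, 6, 6, 4, 3, 3],
  [2, 2, 0, 7, 7, 3, 3, 6, 6],
  [2, 0, 7, 4, 7, 7, 2, 2, 0],
  [3, 3, 0, 3, 6, 6, 3, 0],
  [7, 7, 4, 2, 0, 2, 0],
  [2, 2, 0, 7, 7, 3, 0, 3, 0, 2, 2, 0],
  [3, 0, 3, 3, 6, 5, 2, 2, 7, 3],
  [7, 3, 6, 6, 4, 6, 5, 3]]
/-- their action -/
def aM : List (List (List ℕ)) := [
  [[1, 0, 0, 0], [0, 1, 0, 0], [0, 0, 1, 0], [0, 0, 0, 1]],
  [[2, 2, 3, 1], [0, 1, 0, 0], [3, 0, 1, 1], [0, 0, 0, 1]],
  [[1, 1, 1, 0], [3, 3, 0, 1], [3, 2, 2, 0], [0, 0, 0, 1]],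
  [[1, 2, 1, 0], [3, 1, 3, 1], [0, 0, 3, 1], [0, 0, 0, 1]],
  [[2, 3, 1, 1], [1, 2, 2, 0], [3, 0, 1, 1], [0, 0, 0, 1]],
  [[0, 1, 1, 1], [3, 3, 0, 1], [0, 0, 1, 0], [0, 0, 0, 1]],
  [[1, 3, 2, 1], [0, 3, 0, 1], [1, 3, 1, 1], [0, 0, 0, 1]],
  [[3, 3, 1, 1], [1, 1, 0, 0], [3, 0, 1, 1], [0, 0, 0, 1]],
  [[1, 0, 2, 0], [0, 0, 1, 1], [2, 3, 3, 0], [0, 0, 0, 1]],
  [[2, 1, 0, 0], [1, 0, 3, 1], [0, 0, 3, 1], [0, 0, 0, 1]],
  [[3, 1, 0, 0], [3, 0, 1, 0], [0, 0, 1, 0], [0, 0, 0, 1]],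
  [[2, 2, 1, 1], [2, 3, 3, 1], [1, 0, 3, 0], [0, 0, 0, 1]],
  [[3, 3, 3, 0], [0, 0, 1, 1], [1, 2, 2, 1], [0, 0, 0, 1]],
  [[1, 0, 1, 1], [0, 3, 0, 1], [2, 1, 1, 1], [0, 0, 0, 1]],
  [[2, 3, 1, 0], [1, 1, 0, 0], [3, 2, 2, 0], [0, 0, 0, 1]],
  [[0, 1, 3, 1], [0, 3, 0, 1], [3, 2, 2, 0], [0, 0, 0, 1]]]

theorem orb_K : Orb 2 13 K :=
  wd.orb_pow (r := 2) (κ := 2) (d := 4) (M := 16) (m := 13) (X := xW) (R := [[0, 0, 0, 2]]) (S := sW) (Al := aM)
    (c₀ := [2, 0, 0, 0]) (by norm_num) (by decide +kernel)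

/-- **Nonsplit double covers of `HS` have degree at least 13.** -/
theorem le_of_double {F : Type u} [Field F] [Finite F] (h2 : (2 : F) ≠ 0) {n : ℕ} {P : Subgroup (GL (Fin n) F)}
    (hC : Core P) (e : Soc P ≃* Cfsg.Spor.HS) (hcard : Nat.card ((Cfsg.Geo.scalars (Fin n) F).subgroupOf P) = 2) :
    13 ≤ n := by
  classical
  have hcen : Subgroup.center P = (Cfsg.Geo.scalars (Fin n) F).subgroupOf P := by
    apply le_antisymm _ scalars_le_center
    intro z hz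
    have hs := hC.simple
    have h1 : toSoc P z ∈ Subgroup.center (Soc P) := by
      rw [Subgroup.mem_center_iff]
      intro y
      obtain ⟨y, rfl⟩ := toSoc_surjective P y
      rw [← map_mul, ← map_mul, Subgroup.mem_center_iff.1 hz y]
    have h2 : Subgroup.center (Soc P) = ⊥ := by
      rcases hs.eq_bot_or_eq_top_of_normal (Subgroup.center (Soc P)) inferInstance with h | h
      · exact h
      · exfalso
        apply hC.nonabelian
        exact ⟨⟨fun a b => by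
          have := Subgroup.mem_center_iff.1 (show b ∈ Subgroup.center (Soc P) by rw [h]; trivial) a
          exact this⟩⟩
    rw [h2, Subgroup.mem_bot] at h1
    rw [← ker_toSoc, MonoidHom.mem_ker]
    exact h1
  have hcov : Cfsg.IsNonsplitDoubleCover P Cfsg.Spor.HS := by
    refine ⟨by rw [hcen, hcard], ⟨(QuotientGroup.quotientMulEquivOfEq hcen).trans e⟩, ?_⟩
    intro L hL
    -- a complement has index 2
    have hi : L.index = 2 := by
      rw [← hL.symm.card_right, hcen]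
      exact hcard
    have hn : L.Normal := Subgroup.normal_of_index_eq_two hi
    have hle : commutator P ≤ L := by
      have hcomm : IsMulCommutative (P ⧸ L) := by
        have hc2 : Nat.card (P ⧸ L) = 2 := hi
        have : IsCyclic (P ⧸ L) := isCyclic_of_prime_card hc2
        exact ⟨⟨fun a b => (IsCyclic.commGroup (α := P ⧸ L)).mul_comm a b⟩⟩
      exact (Subgroup.Normal.quotient_commutative_iff_commutator_le (N := L)).1 hcomm
    rw [hC.commutator_top] at hle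
    have h3 : L = ⊤ := top_le_iff.1 hle
    rw [h3, Subgroup.index_top] at hi
    omega
  obtain ⟨f⟩ := Cfsg.Agent.HN.CoverUnique.equiv_K hcov
  have hb : Bd F 2 13 K := orb_K.bd (by norm_num) (by exact_mod_cast h2)
  refine hb n ⟨P, inferInstance, f.toMonoidHom, P.subtype, f.surjective, ?_, ?_, ?_⟩
  · intro x hx y
    have : x = 1 := f.injective (by rw [map_one]; exact hx)
    rw [this, one_mul, mul_one]
  · have : (f.toMonoidHom).ker = ⊥ := (MonoidHom.ker_eq_bot_iff _).2 f.injective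
    rw [this, Subgroup.card_bot]
    exact Nat.coprime_one_left 2
  · rw [Subgroup.ker_subtype]
    exact bot_le

end Cfsg.Agent.H489.Deg.HS2
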