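import Cfsg.Agent.H489.DegCo
import Cfsg.Agent.H489.DegHS2

/-!
# `HS` and `McL`: degree at least 13, every characteristic, every cover (helper489)
-/

set_option autoImplicit false

universe u v

namespace Cfsg.Agent.H489.Deg.Co

open Cfsg Cfsg.Agent.H912.Bd Cfsg.Agent.H921.Spor Cfsg.Agent.H915.LD
open Matrix (GeneralLinearGroup)

/-- **The Higman–Sims group: degree at least 13.** -/
theorem hs_le {p : ℕ} (hp : p.Prime) {F : Type u} [Field F] [Finite F] [CharP F p] {n : ℕ}
    {P : Subgroup (GL (Fin n) F)} (hC : Core P) (e : Soc P ≃* Cfsg.Spor.HS) : 13 ≤ n := by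
  by_cases h5 : p = 5
  · have h2 : ((2 : ℕ) : F) ≠ 0 := cast_ne (F := F) hp Nat.prime_two (by omega)
    have hd := hC.card_scalars_dvd e Cfsg.Agent.S2046.result
    rw [Nat.card_congr Multiplicative.toAdd, Nat.card_zmod] at hd
    rcases (Nat.dvd_prime Nat.prime_two).1 hd with h1 | h1
    · have h := (Co.HS_two.bd (F := F) (by norm_num) h2) n (hC.pr e (by rw [h1]; exact Nat.coprime_one_left 2))
      omega
    · exact HS2.le_of_double (by exact_mod_cast h2) hC e h1
  · have h := le_of_bd hC e Cfsg.Agent.S2046.result (r := 5) (by norm_num)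
      (hs_five (F := F) (by exact_mod_cast cast_ne (F := F) hp (by norm_num : (5 : ℕ).Prime) h5))
    omega

/-- **The McLaughlin group: degree at least 15.** -/
theorem mcl_le {p : ℕ} (hp : p.Prime) {F : Type u} [Field F] [Finite F] [CharP F p] {n : ℕ}
    {P : Subgroup (GL (Fin n) F)} (hC : Core P) (e : Soc P ≃* Cfsg.Spor.McL) : 15 ≤ n := by
  by_cases h2 : p = 2
  · have h := le_of_bd hC e Cfsg.Agent.S2047.result (r := 5) (by norm_num)
      (mcl_five (F := F) (by exact_mod_cast cast_ne (F := F) hp (by norm_num : (5 : ℕ).Prime) (by omega)))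
    omega
  · exact le_of_bd hC e Cfsg.Agent.S2047.result (r := 2) (by norm_num)
      (Co.McL_two.bd (F := F) (by norm_num) (cast_ne (F := F) hp Nat.prime_two h2))

end Cfsg.Agent.H489.Deg.Co
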