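import Cfsg.Agent.H489.OutClassical
import Cfsg.Agent.S1059
import Cfsg.Agent.S1062
import Cfsg.Agent.S1063
import Cfsg.Agent.S1064
import Cfsg.Agent.S1065
import Cfsg.Agent.S1066
import Cfsg.Agent.S1067
import Cfsg.Agent.S1068
import Cfsg.Agent.S1069
import Cfsg.Agent.S1163
import Cfsg.Agent.S2121
import Cfsg.Agent.S2122
import Cfsg.Agent.S2123
import Cfsg.Agent.S2124
import Cfsg.Agent.S2125
import Cfsg.Agent.S2126
import Cfsg.Agent.S2127
import Cfsg.Agent.S2128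
import Cfsg.Agent.S2129
import Cfsg.Agent.S2130

/-!
# `900 |Out S| ^ 5 ≤ 8 |S| ^ 2` for the simple groups of exceptional Lie type (but the Tits group)
-/

set_option autoImplicit false

namespace Cfsg.Agent.H489

open Subgroup Cfsg Cfsg.Lie

theorem charP_of {F : Type*} [Field F] [Fintype F] {p f : ℕ} (hp : p.Prime) (_hf : 1 ≤ f)
    (hF : Fintype.card F = p ^ f) : CharP F p := by
  obtain ⟨r, hr⟩ := CharP.exists F
  obtain ⟨n, hr', hn⟩ := FiniteField.card F r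
  have h1 : r ∣ p ^ f := by rw [← hF, hn]; exact dvd_pow_self r n.ne_zero
  have h2 : r ∣ p := hr'.dvd_of_dvd_pow h1
  rwa [(Nat.prime_dvd_prime_iff_eq hr' hp).1 h2] at hr

theorem sub_pos {q k : ℕ} (hq : 2 ≤ q) (hk : 1 ≤ k) : 1 ≤ q ^ k - 1 := by
  have : q ^ 1 ≤ q ^ k := Nat.pow_le_pow_right (by omega) hk
  rw [pow_one] at this
  omega

/-- **`G₂(q)`** -/
theorem ok_g2 {S : Type*} [Group S] (h : IsoChevG2 S) : OutOK S := by
  obtain ⟨F, _, _, h3, ⟨e⟩⟩ := h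
  obtain ⟨p, f, hp, hf, hF, h2f, hq⟩ := exists_pf F
  have : Fact p.Prime := ⟨hp⟩
  have := charP_of hp hf hF
  refine OutOK.congr e ?_
  unfold OutOK
  rw [S2121.result p f hF (hF ▸ h3), S1059.result (F := F) rfl]
  set q := Fintype.card F
  refine Num.generic (q0 := 3) (c := 1) (c' := 1) (i := 1) (j := 6) h3 ?_ ?_ (by norm_num)
    (by norm_num) (by norm_num)
  · rw [one_mul, pow_one]; split_ifs <;> omega
  · calc q ^ 6 = 1 * (q ^ 6 * 1 * 1) := by ring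
      _ ≤ 1 * (q ^ 6 * (q ^ 2 - 1) * (q ^ 6 - 1)) := Nat.mul_le_mul_left _ (Nat.mul_le_mul
          (Nat.mul_le_mul_left _ (sub_pos hq (by norm_num))) (sub_pos hq (by norm_num)))

/-- **`F₄(q)`** -/
theorem ok_f4 {S : Type*} [Group S] (h : IsoF4 S) : OutOK S := by
  obtain ⟨F, _, _, ⟨e⟩⟩ := h
  obtain ⟨p, f, hp, hf, hF, h2f, hq⟩ := exists_pf F
  have : Fact p.Prime := ⟨hp⟩
  have := charP_of hp hf hF
  refine OutOK.congr e ?_
  unfold OutOK
  rw [S2122.result p f hF, S1062.result (F := F) rfl]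
  set q := Fintype.card F
  refine Num.generic (q0 := 2) (c := 1) (c' := 1) (i := 1) (j := 24) hq ?_ ?_ (by norm_num)
    (by norm_num) (by norm_num)
  · rw [one_mul, pow_one]
    exact (Nat.mul_le_mul_right _ (Nat.gcd_le_left _ (by norm_num))).trans h2f
  · calc q ^ 24 = 1 * (q ^ 24 * 1 * 1 * 1 * 1) := by ring
      _ ≤ 1 * (q ^ 24 * (q ^ 2 - 1) * (q ^ 6 - 1) * (q ^ 8 - 1) * (q ^ 12 - 1)) := by
          gcongr <;> exact sub_pos hq (by norm_num)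

/-- **`E₆(q)`** -/
theorem ok_e6 {S : Type*} [Group S] (h : IsoChevE6 S) : OutOK S := by
  obtain ⟨F, _, _, ⟨e⟩⟩ := h
  obtain ⟨p, f, hp, hf, hF, h2f, hq⟩ := exists_pf F
  have : Fact p.Prime := ⟨hp⟩
  have := charP_of hp hf hF
  refine OutOK.congr e ?_
  unfold OutOK
  rw [S2123.result p f hF]
  have hN := S1063.result (F := F) rfl
  set q := Fintype.card F
  refine Num.generic (q0 := 2) (c := 3) (c' := 3) (i := 1) (j := 36) hq ?_ ?_ (by norm_num)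
    (by norm_num) (by norm_num)
  · calc 2 * Nat.gcd 3 (p ^ f - 1) * f = Nat.gcd 3 (p ^ f - 1) * (2 * f) := by ring
      _ ≤ 3 * q ^ 1 := Nat.mul_le_mul (Nat.gcd_le_left _ (by norm_num)) (by rw [pow_one]; exact h2f)
  · calc q ^ 36 = q ^ 36 * 1 * 1 * 1 * 1 * 1 * 1 := by ring
      _ ≤ q ^ 36 * (q ^ 2 - 1) * (q ^ 5 - 1) * (q ^ 6 - 1) * (q ^ 8 - 1) * (q ^ 9 - 1) * (q ^ 12 - 1) := by
          gcongr <;> exact sub_pos hq (by norm_num)
      _ = Nat.gcd 3 (q - 1) * Nat.card (chevE6.group F) := hN.symm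
      _ ≤ 3 * Nat.card (chevE6.group F) := Nat.mul_le_mul_right _ (Nat.gcd_le_left _ (by norm_num))

/-- **`E₇(q)`** -/
theorem ok_e7 {S : Type*} [Group S] (h : IsoE7 S) : OutOK S := by
  obtain ⟨F, _, _, ⟨e⟩⟩ := h
  obtain ⟨p, f, hp, hf, hF, h2f, hq⟩ := exists_pf F
  have : Fact p.Prime := ⟨hp⟩
  have := charP_of hp hf hF
  refine OutOK.congr e ?_
  unfold OutOK
  rw [S2124.result p f hF]
  have hN := S1064.result (F := F) rfl
  set q := Fintype.card F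
  refine Num.generic (q0 := 2) (c := 1) (c' := 2) (i := 1) (j := 63) hq ?_ ?_ (by norm_num)
    (by norm_num) (by norm_num)
  · rw [one_mul, pow_one]
    exact (Nat.mul_le_mul_right _ (Nat.gcd_le_left _ (by norm_num))).trans h2f
  · calc q ^ 63 = q ^ 63 * 1 * 1 * 1 * 1 * 1 * 1 * 1 := by ring
      _ ≤ q ^ 63 * (q ^ 2 - 1) * (q ^ 6 - 1) * (q ^ 8 - 1) * (q ^ 10 - 1) * (q ^ 12 - 1) * (q ^ 14 - 1) *
          (q ^ 18 - 1) := by
          gcongr <;> exact sub_pos hq (by norm_num)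
      _ = Nat.gcd 2 (q - 1) * Nat.card (chevE7.group F) := hN.symm
      _ ≤ 2 * Nat.card (chevE7.group F) := Nat.mul_le_mul_right _ (Nat.gcd_le_left _ (by norm_num))

/-- **`E₈(q)`** -/
theorem ok_e8 {S : Type*} [Group S] (h : IsoE8 S) : OutOK S := by
  obtain ⟨F, _, _, ⟨e⟩⟩ := h
  obtain ⟨p, f, hp, hf, hF, h2f, hq⟩ := exists_pf F
  have : Fact p.Prime := ⟨hp⟩
  have := charP_of hp hf hF
  refine OutOK.congr e ?_
  unfold OutOK
  rw [S2125.result p f hF, S1065.result (F := F) rfl]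
  set q := Fintype.card F
  refine Num.generic (q0 := 2) (c := 1) (c' := 1) (i := 1) (j := 120) hq ?_ ?_ (by norm_num)
    (by norm_num) (by norm_num)
  · rw [one_mul, pow_one]; omega
  · calc q ^ 120 = 1 * (q ^ 120 * 1 * 1 * 1 * 1 * 1 * 1 * 1 * 1) := by ring
      _ ≤ 1 * (q ^ 120 * (q ^ 2 - 1) * (q ^ 8 - 1) * (q ^ 12 - 1) * (q ^ 14 - 1) * (q ^ 18 - 1) * (q ^ 20 - 1) *
          (q ^ 24 - 1) * (q ^ 30 - 1)) := by
          gcongr <;> exact sub_pos hq (by norm_num)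

theorem exists_pf_of {K : Type*} [Field K] [Fintype K] {q k : ℕ} (hq : IsPrimePow q) (hK : Fintype.card K = q ^ k)
    (hk : 1 ≤ k) : ∃ p f : ℕ, p.Prime ∧ CharP K p ∧ 1 ≤ f ∧ q = p ^ f ∧ Fintype.card K = p ^ (k * f) ∧ 2 * f ≤ q ∧ 2 ≤ q := by
  obtain ⟨p, f, hp, hf, h⟩ := hq
  have hp' : p.Prime := Nat.prime_iff.2 hp
  have hK' : Fintype.card K = p ^ (k * f) := by rw [hK, ← h, ← pow_mul, mul_comm]
  refine ⟨p, f, hp', charP_of hp' (Nat.mul_pos hk hf) hK', hf, h.symm, hK', ?_, ?_⟩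
  · rw [← h]
    have h1 : 2 ^ f ≤ p ^ f := Nat.pow_le_pow_left hp'.two_le f
    have h2 : 2 * f ≤ 2 ^ f := by
      obtain ⟨k, rfl⟩ : ∃ k, f = k + 1 := ⟨f - 1, by omega⟩
      rw [pow_succ]
      have : k < 2 ^ k := Nat.lt_two_pow_self
      omega
    omega
  · rw [← h]
    calc 2 = 2 ^ 1 := by norm_num
      _ ≤ 2 ^ f := Nat.pow_le_pow_right (by norm_num) hf
      _ ≤ p ^ f := Nat.pow_le_pow_left hp'.two_le f

/-- **`²E₆(q)`** -/
theorem ok_2e6 {S : Type*} [Group S] (h : Iso2E6 S) : OutOK S := by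
  obtain ⟨K, _, _, q, hqp, hK, ⟨e⟩⟩ := h
  obtain ⟨p, f, hp, hc, hf, hqf, hKf, h2f, hq⟩ := exists_pf_of hqp hK (by norm_num)
  have : Fact p.Prime := ⟨hp⟩
  refine OutOK.congr e ?_
  unfold OutOK
  have hN := S1066.result hqp hK
  have ho := S2130.result p f hKf hf
  rw [← hqf] at ho
  rw [ho]
  refine Num.generic (q0 := 2) (c := 3) (c' := 3) (i := 1) (j := 36) hq ?_ ?_ (by norm_num)
    (by norm_num) (by norm_num)
  · calc 2 * Nat.gcd 3 (q + 1) * f = Nat.gcd 3 (q + 1) * (2 * f) := by ring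
      _ ≤ 3 * q ^ 1 := Nat.mul_le_mul (Nat.gcd_le_left _ (by norm_num)) (by rw [pow_one]; exact h2f)
  · calc q ^ 36 = q ^ 36 * 1 * 1 * 1 * 1 * 1 * 1 := by ring
      _ ≤ q ^ 36 * (q ^ 2 - 1) * (q ^ 5 + 1) * (q ^ 6 - 1) * (q ^ 8 - 1) * (q ^ 9 + 1) * (q ^ 12 - 1) := by
          gcongr <;> first | exact sub_pos hq (by norm_num) | omega
      _ = Nat.gcd 3 (q + 1) * Nat.card (twistedE6 K q) := hN.symm
      _ ≤ 3 * Nat.card (twistedE6 K q) := Nat.mul_le_mul_right _ (Nat.gcd_le_left _ (by norm_num))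

/-- **`³D₄(q)`** -/
theorem ok_3d4 {S : Type*} [Group S] (h : Iso3D4 S) : OutOK S := by
  obtain ⟨K, _, _, q, hqp, hK, ⟨e⟩⟩ := h
  obtain ⟨p, f, hp, hc, hf, hqf, hKf, h2f, hq⟩ := exists_pf_of hqp hK (by norm_num)
  have : Fact p.Prime := ⟨hp⟩
  refine OutOK.congr e ?_
  unfold OutOK
  have hN := S1067.result hqp hK
  have ho := S2129.result p f hKf hf
  rw [← hqf] at ho
  rw [ho, hN]
  refine Num.generic (q0 := 2) (c := 2) (c' := 1) (i := 1) (j := 12) hq ?_ ?_ (by norm_num)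
    (by norm_num) (by norm_num)
  · rw [pow_one]; omega
  · calc q ^ 12 = 1 * (q ^ 12 * 1 * 1 * 1) := by ring
      _ ≤ 1 * (q ^ 12 * (q ^ 2 - 1) * (q ^ 6 - 1) * (q ^ 8 + q ^ 4 + 1)) := by
          gcongr <;> first | exact sub_pos hq (by norm_num) | omega

theorem two_mul_le' {p n : ℕ} (hp : 2 ≤ p) : 2 * (2 * n + 1) ≤ p ^ (2 * n + 1) := by
  have h1 : 2 ^ (2 * n + 1) ≤ p ^ (2 * n + 1) := Nat.pow_le_pow_left hp _
  have h2 : 2 * n < 2 ^ (2 * n) := Nat.lt_two_pow_self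
  rw [pow_succ] at h1
  omega

theorem pow_ge {p m : ℕ} (hp : 2 ≤ p) (hm : 1 ≤ m) : p ^ 3 ≤ p ^ (2 * m + 1) :=
  Nat.pow_le_pow_right (by omega) (by omega)

/-- **`Sz(q)`** -/
theorem ok_sz {S : Type*} [Group S] (h : IsoSuzuki S) : OutOK S := by
  obtain ⟨F, _, _, m, hm, hF, ⟨e⟩⟩ := h
  refine OutOK.congr e ?_
  unfold OutOK
  rw [S2126.result hm hF, (S1163.result hm hF).1]
  have h8 : 8 ≤ 2 ^ (2 * m + 1) := pow_ge (p := 2) le_rfl hm
  have h2f : 2 * (2 * m + 1) ≤ 2 ^ (2 * m + 1) := two_mul_le' le_rfl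
  set q := 2 ^ (2 * m + 1)
  have hq : 2 ≤ q := by omega
  refine Num.generic (q0 := 8) (c := 1) (c' := 1) (i := 1) (j := 4) h8 ?_ ?_ (by norm_num)
    (by norm_num) (by norm_num)
  · rw [one_mul, pow_one]; omega
  · calc q ^ 4 = 1 * (q ^ 2 * 1 * q ^ 2) := by ring
      _ ≤ 1 * (q ^ 2 * (q - 1) * (q ^ 2 + 1)) := by
          gcongr <;> omega

/-- **`²G₂(q)`** -/
theorem ok_ree {S : Type*} [Group S] (h : IsoRee S) : OutOK S := by
  obtain ⟨F, _, _, m, hm, hF, ⟨e⟩⟩ := h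
  refine OutOK.congr e ?_
  unfold OutOK
  rw [S2127.result hm hF, S1069.result hF]
  have h8 : 27 ≤ 3 ^ (2 * m + 1) := pow_ge (p := 3) (by norm_num) hm
  have h2f : 2 * (2 * m + 1) ≤ 3 ^ (2 * m + 1) := two_mul_le' (by norm_num)
  set q := 3 ^ (2 * m + 1)
  have hq : 2 ≤ q := by omega
  refine Num.generic (q0 := 27) (c := 1) (c' := 1) (i := 1) (j := 6) h8 ?_ ?_ (by norm_num)
    (by norm_num) (by norm_num)
  · rw [one_mul, pow_one]; omega
  · calc q ^ 6 = 1 * (q ^ 3 * 1 * q ^ 3) := by ring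
      _ ≤ 1 * (q ^ 3 * (q - 1) * (q ^ 3 + 1)) := by
          gcongr <;> omega

/-- **`²F₄(q)`** -/
theorem ok_2f4 {S : Type*} [Group S] (h : Iso2F4 S) : OutOK S := by
  obtain ⟨F, _, _, m, hm, hF, ⟨e⟩⟩ := h
  refine OutOK.congr e ?_
  unfold OutOK
  rw [S2128.result hm hF, S1068.result hF]
  have h8 : 8 ≤ 2 ^ (2 * m + 1) := pow_ge (p := 2) le_rfl hm
  have h2f : 2 * (2 * m + 1) ≤ 2 ^ (2 * m + 1) := two_mul_le' le_rfl
  set q := 2 ^ (2 * m + 1)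
  have hq : 2 ≤ q := by omega
  refine Num.generic (q0 := 8) (c := 1) (c' := 1) (i := 1) (j := 12) h8 ?_ ?_ (by norm_num)
    (by norm_num) (by norm_num)
  · rw [one_mul, pow_one]; omega
  · calc q ^ 12 = 1 * (q ^ 12 * 1 * 1 * 1 * 1) := by ring
      _ ≤ 1 * (q ^ 12 * (q - 1) * (q ^ 3 + 1) * (q ^ 4 - 1) * (q ^ 6 + 1)) := by
          gcongr <;> first | exact sub_pos hq (by norm_num) | omega

end Cfsg.Agent.H489
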