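import Cfsg.Agent.H489.OutNum
import Cfsg.Agent.H489.OutExc
import Cfsg.Agent.H489.OutSpor
import Cfsg.Agent.S0493

/-!
# `900 |Out S| ^ 5 ≤ 8 |S| ^ 2` for every known nonabelian finite simple group `S`
-/

set_option autoImplicit false

namespace Cfsg.Agent.H489

open Subgroup Cfsg

universe u

theorem sixty_le {S : Type*} [Group S] [Finite S] [IsSimpleGroup S] (hna : ¬ IsMulCommutative S) :
    60 ≤ Nat.card S := by
  by_contra h
  have h1 := S0493.result (G := S) (fun hc => hna (by
    have := hc
    exact IsCyclic.isMulCommutative)) (by omega)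
  omega

theorem ok_of_le_two {S : Type*} [Group S] (h60 : 60 ≤ Nat.card S) (h : Nat.card (Out S) ≤ 2) : OutOK S := by
  unfold OutOK
  have h1 : Nat.card (Out S) ^ 5 ≤ 2 ^ 5 := Nat.pow_le_pow_left h 5
  have h2 : 60 ^ 2 ≤ Nat.card S ^ 2 := Nat.pow_le_pow_left h60 2
  omega

/-- **`900 |Out S| ^ 5 ≤ 8 |S| ^ 2` for every known nonabelian finite simple group `S`.** -/
theorem ok_known {S : Type*} [Group S] [Finite S] [IsSimpleGroup S] (hna : ¬ IsMulCommutative S)
    (h : IsKnownSimple' S) : OutOK S := by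
  have h60 := sixty_le hna
  rcases h with h | h | h | h | h | h | h | h | h | h
  · exfalso
    apply hna
    have h1 : Fact (Nat.card S).Prime := ⟨h⟩
    have h2 : IsCyclic S := isCyclic_of_prime_card (p := Nat.card S) rfl
    exact IsCyclic.isMulCommutative
  · obtain ⟨n, hn, ⟨e⟩⟩ := h
    by_cases h6 : n = 6
    · subst h6
      exact ok_psl hna (isPSL_alt_six e)
    · refine ok_of_le_two h60 ?_
      rw [H55.OutGen.card_out_congr e, card_out_alt hn h6]
  · exact ok_psl hna h
  · exact ok_psp hna h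
  · exact ok_psu hna h
  · exact ok_omega_odd hna h
  · exact ok_omega_plus hna h
  · exact ok_omega_minus hna h
  · rcases h with h | h | h | h | h | h | h | h | h | h | h
    · exact ok_g2 h
    · exact ok_f4 h
    · exact ok_e6 h
    · exact ok_e7 h
    · exact ok_e8 h
    · exact ok_2e6 h
    · exact ok_3d4 h
    · exact ok_sz h
    · exact ok_ree h
    · exact ok_2f4 h
    · exact ok_of_le_two h60 (card_out_tits h)
  · exact ok_of_le_two h60 (card_out_sporadic h)

theorem outBound (hS : ∀ (S : Type u) [Group S] [Finite S] [IsSimpleGroup S], IsKnownSimple' S) : OutBound.{u} := by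
  intro S _ _ _ hna
  exact crit (sixty_le hna) (ok_known hna (hS S))

/-- the last term of the derived series -/
theorem exists_derivedSeries (G : Type*) [Group G] [Finite G] :
    ∃ N : ℕ, (⨅ n : ℕ, derivedSeries G n) = derivedSeries G N := by
  obtain ⟨N, hN⟩ : ∃ N : ℕ, ∀ n, Nat.card (derivedSeries G N) ≤ Nat.card (derivedSeries G n) := by
    have h := WellFounded.has_min (r := (· < · : ℕ → ℕ → Prop)) wellFounded_lt
      (Set.range fun n => Nat.card (derivedSeries G n)) ⟨_, 0, rfl⟩
    obtain ⟨_, ⟨N, rfl⟩, h⟩ := h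
    exact ⟨N, fun n => not_lt.1 (h _ ⟨n, rfl⟩)⟩
  refine ⟨N, le_antisymm (iInf_le _ N) (le_iInf fun n => ?_)⟩
  rcases le_total n N with h | h
  · exact derivedSeries_antitone G h
  · exact (Subgroup.eq_of_le_of_card_ge (derivedSeries_antitone G h) (hN n)).ge

theorem solvable_quotient_derivedSeries (G : Type*) [Group G] (N : ℕ) :
    Group.IsSolvable (G ⧸ derivedSeries G N) := by
  refine ⟨N, ?_⟩
  rw [← map_derivedSeries_eq (f := QuotientGroup.mk' (derivedSeries G N)) (QuotientGroup.mk'_surjective _) N,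
    eq_bot_iff, map_le_iff_le_comap]
  intro x hx
  rw [mem_comap, mem_bot]
  exact (QuotientGroup.eq_one_iff x).2 hx

end Cfsg.Agent.H489
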