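import Mathlib
import Cfsg.Agent.H489.DixonPerm

/-!
# Solvable supplements

`exists_solvable_supplement`: a normal subgroup `R` of a finite group `G` with solvable quotient has a solvable
supplement. `card_quot_pow_three_le`: Dixon's bound for solvable quotients of permutation groups.
-/

set_option autoImplicit false

namespace Cfsg.Agent.H489

open Subgroup

universe u

/-- **Solvable supplement** of a normal subgroup with solvable quotient. -/
theorem exists_solvable_supplement {G : Type*} [Group G] [Finite G] (R : Subgroup G) [hR : R.Normal]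
    (hs : Group.IsSolvable (G ⧸ R)) : ∃ H : Subgroup G, Group.IsSolvable H ∧ R ⊔ H = ⊤ := by
  have hfin : {H : Subgroup G | R ⊔ H = ⊤}.Finite := Set.toFinite _
  obtain ⟨H, hH, hmin⟩ := hfin.exists_minimal ⟨⊤, by simp⟩
  have hH' : R ⊔ H = ⊤ := hH
  refine ⟨H, ?_, hH'⟩
  -- `R ∩ H ≤ Φ(H)`
  have hK : R.subgroupOf H ≤ frattini H := by
    unfold frattini Order.radical
    refine le_iInf₂ ?_
    intro M hM
    by_contra hnot
    have h1 : R.subgroupOf H ⊔ M = ⊤ := by
      rcases hM.le_iff.mp (le_sup_right : M ≤ R.subgroupOf H ⊔ M) with h | h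
      · exact h
      · exfalso
        apply hnot
        rw [← h]
        exact le_sup_left
    have h2 : (R ⊓ H) ⊔ M.map H.subtype = H := by
      have h3 := congrArg (Subgroup.map H.subtype) h1
      rw [Subgroup.map_sup, Subgroup.subgroupOf_map_subtype, ← MonoidHom.range_eq_map, H.range_subtype] at h3
      exact h3
    have h4 : R ⊔ M.map H.subtype = ⊤ := by
      rw [eq_top_iff, ← hH', sup_le_iff]
      refine ⟨le_sup_left, ?_⟩
      conv_lhs => rw [← h2]
      exact sup_le_sup_right inf_le_left _
    have h5 : M.map H.subtype ≤ H := Subgroup.map_subtype_le M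
    have h6 : H ≤ M.map H.subtype := hmin h4 h5
    apply hM.1
    rw [eq_top_iff]
    rintro x -
    obtain ⟨y, hy, hyx⟩ := h6 x.2
    have : y = x := Subtype.ext hyx
    rwa [← this]
  have hnil : Group.IsNilpotent (frattini H) := frattini_nilpotent
  have hsolF : Group.IsSolvable (frattini H) := inferInstance
  have hsolK : Group.IsSolvable (R.subgroupOf H) :=
    Group.isSolvable_of_isSolvable_injective (Subgroup.inclusion_injective hK)
  have hquot : Group.IsSolvable (H ⧸ R.subgroupOf H) := by
    have hf : Function.Injective (QuotientGroup.map (R.subgroupOf H) R H.subtype (by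
      intro x hx
      exact hx)) := by
      rw [injective_iff_map_eq_one]
      intro x hx
      obtain ⟨y, rfl⟩ := QuotientGroup.mk'_surjective _ x
      have h7 : (QuotientGroup.mk (H.subtype y) : G ⧸ R) = 1 := hx
      rw [QuotientGroup.eq_one_iff] at h7
      exact (QuotientGroup.eq_one_iff y).mpr h7
    exact Group.isSolvable_of_isSolvable_injective hf
  exact (Group.isSolvable_iff_subgroup_quotient (R.subgroupOf H)).mpr ⟨hsolK, hquot⟩

/-- **Dixon's bound for solvable quotients** of permutation groups. -/
theorem index_pow_three_le {Ω : Type u} [Finite Ω] [Nonempty Ω] (P : Subgroup (Equiv.Perm Ω))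
    (R : Subgroup P) [R.Normal] (hs : Group.IsSolvable (P ⧸ R)) :
    R.index ^ 3 ≤ 24 ^ (Nat.card Ω - 1) := by
  obtain ⟨H, hH, hRH⟩ := exists_solvable_supplement R hs
  have h1 : R.index ≤ Nat.card H := by
    rw [← Subgroup.relIndex_top_right, ← hRH, Subgroup.relIndex_sup_left]
    exact Nat.le_of_dvd Nat.card_pos (Subgroup.relIndex_dvd_card R H)
  have h2 : Nat.card (H.map P.subtype) = Nat.card H :=
    Nat.card_congr (H.equivMapOfInjective _ P.subtype_injective).toEquiv.symm
  have h3 : Group.IsSolvable (H.map P.subtype) :=
    Group.isSolvable_of_surjective (f := (H.equivMapOfInjective _ P.subtype_injective).toMonoidHom)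
      (H.equivMapOfInjective _ P.subtype_injective).surjective
  have h4 := card_pow_three_le (Nat.card Ω) Ω (H.map P.subtype) h3 rfl Nat.card_pos
  rw [h2] at h4
  exact (Nat.pow_le_pow_left h1 3).trans h4

end Cfsg.Agent.H489
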