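import Mathlib
import Cfsg.Agent.H489.Supplement
import Cfsg.Agent.Lib.MinNormal
import Cfsg.Agent.Lib.Cores
import Cfsg.Prelude.Def_KGroupFacts

/-!
# The action of a finite group on the simple factors of a minimal normal subgroup
-/

set_option autoImplicit false

namespace Cfsg.Agent.H489

open Subgroup Cfsg

universe u

section

variable {G : Type u} [Group G]

theorem mem_map_conj {H : Subgroup G} {g x : G} :
    x ∈ H.map (MulAut.conj g).toMonoidHom ↔ g⁻¹ * x * g ∈ H := by
  constructor
  · rintro ⟨y, hy, rfl⟩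
    have : g⁻¹ * ((MulAut.conj g).toMonoidHom y) * g = y := by
      show g⁻¹ * (g * y * g⁻¹) * g = y
      group
    rw [this]; exact hy
  · intro h
    refine ⟨_, h, ?_⟩
    show g * (g⁻¹ * x * g) * g⁻¹ = x
    group

/-- A simple nonabelian subgroup normalised by the join of the commuting simple subgroups `T i` and contained in it
is one of the `T i`. -/
theorem exists_eq_of_simple {m : ℕ} {T : Fin m → Subgroup G} (hsimple : ∀ i, IsSimpleGroup (T i))
    {S : Subgroup G} (hS : IsSimpleGroup S) (hSle : S ≤ ⨆ i, T i)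
    (hSn : (⨆ i, T i) ≤ normalizer (S : Set G)) (hTn : ∀ i, (⨆ i, T i) ≤ normalizer (T i : Set G))
    (hSna : ∃ a ∈ S, ∃ b ∈ S, a * b ≠ b * a) : ∃ i, S = T i := by
  by_contra hne
  push Not at hne
  -- `S ∩ T i = 1`
  have hint : ∀ i, S ⊓ T i = ⊥ := by
    intro i
    have hn1 : ((S ⊓ T i).subgroupOf S).Normal := by
      constructor
      intro x hx g
      rw [mem_subgroupOf] at hx ⊢
      refine ⟨S.mul_mem (S.mul_mem g.2 hx.1) (S.inv_mem g.2), ?_⟩
      exact (mem_normalizer_iff.mp (hTn i (hSle g.2)) _).mp hx.2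
    have hn2 : ((S ⊓ T i).subgroupOf (T i)).Normal := by
      constructor
      intro x hx g
      rw [mem_subgroupOf] at hx ⊢
      refine ⟨?_, (T i).mul_mem ((T i).mul_mem g.2 hx.2) ((T i).inv_mem g.2)⟩
      exact (mem_normalizer_iff.mp (hSn (le_iSup T i g.2)) _).mp hx.1
    have hTi := hsimple i
    rcases hn1.eq_bot_or_eq_top with h1 | h1
    · rw [subgroupOf_eq_bot, disjoint_iff] at h1
      rw [← h1, inf_assoc, inf_comm (T i) S, ← inf_assoc, inf_idem]
    · rcases hn2.eq_bot_or_eq_top with h2 | h2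
      · rw [subgroupOf_eq_bot, disjoint_iff] at h2
        rw [← h2, inf_assoc, inf_idem]
      · exfalso
        rw [subgroupOf_eq_top] at h1 h2
        exact hne i (le_antisymm (h1.trans inf_le_right) (h2.trans inf_le_left))
  have hcomm : ∀ i, ∀ s ∈ S, ∀ x ∈ T i, s * x = x * s := by
    intro i s hs x hx
    have h1 : s * x * s⁻¹ * x⁻¹ ∈ S ⊓ T i := by
      constructor
      · have h2 : x * s⁻¹ * x⁻¹ ∈ S := (mem_normalizer_iff.mp (hSn (le_iSup T i hx)) _).mp (S.inv_mem hs)
        have h3 := S.mul_mem hs h2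
        have h4 : s * (x * s⁻¹ * x⁻¹) = s * x * s⁻¹ * x⁻¹ := by group
        rwa [h4] at h3
      · have h2 : s * x * s⁻¹ ∈ T i := (mem_normalizer_iff.mp (hTn i (hSle hs)) _).mp hx
        exact (T i).mul_mem h2 ((T i).inv_mem hx)
    rw [hint, mem_bot] at h1
    have h2 : s * x = x * s := by
      have h3 : s * x * s⁻¹ * x⁻¹ = 1 := h1
      rw [mul_inv_eq_one, mul_inv_eq_iff_eq_mul] at h3
      exact h3
    exact h2
  obtain ⟨a, ha, b, hb, hab⟩ := hSna
  apply hab
  have h1 : (⨆ i, T i) ≤ centralizer {a} := by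
    rw [iSup_le_iff]
    intro i x hx
    rw [mem_centralizer_singleton_iff]
    exact (hcomm i a ha x hx).symm
  have h2 := mem_centralizer_singleton_iff.mp (h1 (hSle hb))
  exact h2.symm

/-- The homomorphism to the symmetric group of the set of simple factors. -/
theorem exists_perm {m : ℕ} {T : Fin m → Subgroup G} (hinj : Function.Injective T)
    (hperm : ∀ (g : G) (i : Fin m), ∃ j, (T i).map (MulAut.conj g).toMonoidHom = T j) :
    ∃ σ : G →* Equiv.Perm (Fin m), ∀ g i, (T i).map (MulAut.conj g).toMonoidHom = T (σ g i) := by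
  choose f hf using hperm
  have h1 : ∀ i, f 1 i = i := by
    intro i
    apply hinj
    rw [← hf]
    exact Cfsg.Agent.Lib.MinNormal.map_conj_one (T i)
  have h2 : ∀ g h i, f (g * h) i = f g (f h i) := by
    intro g h i
    apply hinj
    rw [← hf, ← hf, ← hf, Cfsg.Agent.Lib.MinNormal.map_conj_map_conj]
  refine ⟨{ toFun := fun g => ⟨f g, f g⁻¹, fun i => by rw [← h2, inv_mul_cancel, h1],
            fun i => by rw [← h2, mul_inv_cancel, h1]⟩
            map_one' := by ext i; exact congrArg Fin.val (h1 i)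
            map_mul' := fun g h => by ext i; exact congrArg Fin.val (h2 g h i) }, fun g i => hf g i⟩

/-- An element inducing inner automorphisms on all factors lies in `N C(N)`. -/
theorem mem_sup_of_inner {m : ℕ} {T : Fin m → Subgroup G} {N : Subgroup G} (hN : ⨆ i, T i = N)
    (hcomm : ∀ i j, i ≠ j → ∀ x ∈ T i, ∀ y ∈ T j, Commute x y) {k : G}
    (hk : ∀ i, ∃ t ∈ T i, ∀ x ∈ T i, k * x * k⁻¹ = t * x * t⁻¹) :
    k ∈ N ⊔ centralizer (N : Set G) := by
  classical
  choose t ht htk using hk
  have key : ∀ s : Finset (Fin m), ∃ n ∈ N, (∀ i ∈ s, ∀ x ∈ T i, n⁻¹ * k * x * (n⁻¹ * k)⁻¹ = x) ∧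
      ∀ j, j ∉ s → ∀ x ∈ T j, n * x = x * n := by
    intro s
    induction s using Finset.induction_on with
    | empty => exact ⟨1, N.one_mem, by simp, by simp⟩
    | insert a s ha ih =>
      obtain ⟨n, hnN, hn1, hn2⟩ := ih
      refine ⟨n * t a, N.mul_mem hnN (by rw [← hN]; exact le_iSup T a (ht a)), ?_, ?_⟩
      · intro i hi x hx
        have h0 : (n * t a)⁻¹ * k * x * ((n * t a)⁻¹ * k)⁻¹
            = (t a)⁻¹ * (n⁻¹ * k * x * (n⁻¹ * k)⁻¹) * t a := by group
        rw [h0]
        rcases Finset.mem_insert.mp hi with rfl | his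
        · -- on `T a`
          have h1 : n⁻¹ * k * x * (n⁻¹ * k)⁻¹ = n⁻¹ * (k * x * k⁻¹) * n := by group
          rw [h1, htk i x hx]
          have h2 : t i * x * (t i)⁻¹ ∈ T i := (T i).mul_mem ((T i).mul_mem (ht i) hx) ((T i).inv_mem (ht i))
          have h3 := hn2 i ha _ h2
          have h4 : n⁻¹ * (t i * x * (t i)⁻¹) * n = t i * x * (t i)⁻¹ := by
            rw [mul_assoc, ← h3, inv_mul_cancel_left]
          rw [h4]; group
        · rw [hn1 i his x hx]
          have hne : i ≠ a := fun h => ha (h ▸ his)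
          have h5 := (hcomm i a hne x hx (t a) (ht a)).eq
          rw [mul_assoc, h5, inv_mul_cancel_left]
      · intro j hj x hx
        have hja : j ≠ a := fun h => hj (h ▸ Finset.mem_insert_self _ _)
        have hjs : j ∉ s := fun h => hj (Finset.mem_insert_of_mem h)
        have h5 := (hcomm j a hja x hx (t a) (ht a)).eq
        have h6 := hn2 j hjs x hx
        rw [mul_assoc, ← h5, ← mul_assoc, h6, mul_assoc]
  obtain ⟨n, hnN, hn, -⟩ := key Finset.univ
  have h1 : n⁻¹ * k ∈ centralizer (N : Set G) := by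
    have h2 : N ≤ centralizer {n⁻¹ * k} := by
      rw [← hN, iSup_le_iff]
      intro i x hx
      rw [mem_centralizer_singleton_iff]
      have h3 := hn i (Finset.mem_univ i) x hx
      rw [mul_inv_eq_iff_eq_mul] at h3
      exact h3.symm
    rw [mem_centralizer_iff]
    intro x hx
    exact mem_centralizer_singleton_iff.mp (h2 hx)
  have h2 : k = n * (n⁻¹ * k) := by group
  rw [h2]
  exact mul_mem_sup hnN h1

end

end Cfsg.Agent.H489
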