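import Mathlib
import Cfsg.Agent.H489.SocleAct

/-!
# The index of the solvable residual: one minimal normal subgroup
-/

set_option autoImplicit false

namespace Cfsg.Agent.H489

open Subgroup Cfsg

universe u

section

variable {G : Type u} [Group G] [Finite G]

/-- **Bound for the index** of `R C(N)`, `N = T₁ × ⋯ × T_m` a normal subgroup which is a product of nonabelian simple
groups, `N ≤ R`, `G / R` solvable. -/
theorem core_index {m : ℕ} (hm : 0 < m) {T : Fin m → Subgroup G} {N : Subgroup G} (hNn : N.Normal)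
    (hN : ⨆ i, T i = N) (hsimple : ∀ i, IsSimpleGroup (T i))
    (hTn : ∀ i, N ≤ normalizer (T i : Set G)) (hTna : ∀ i, ∃ a ∈ T i, ∃ b ∈ T i, a * b ≠ b * a)
    (hcomm : ∀ i j, i ≠ j → ∀ x ∈ T i, ∀ y ∈ T j, Commute x y) (hinj : Function.Injective T)
    (R : Subgroup G) (hR : R.Normal) (hs : Group.IsSolvable (G ⧸ R)) (hNR : N ≤ R) :
    24 * (R ⊔ centralizer (N : Set G)).index ^ 3 ≤ ∏ i, (24 * Nat.card (Out (T i)) ^ 3) := by
  classical
  have hTN : ∀ i, T i ≤ N := fun i => hN ▸ le_iSup T i
  -- the permutation action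
  have hperm : ∀ (g : G) (i : Fin m), ∃ j, (T i).map (MulAut.conj g).toMonoidHom = T j := by
    intro g i
    have hS : IsSimpleGroup ((T i).map (MulAut.conj g).toMonoidHom) := by
      have := hsimple i
      exact (((T i).equivMapOfInjective _ (MulAut.conj g).injective)).symm.isSimpleGroup
    have hmapN : N.map (MulAut.conj g).toMonoidHom = N := Cfsg.Agent.Lib.MinNormal.map_conj_normal g N
    refine exists_eq_of_simple hsimple hS ?_ ?_ ?_ ?_
    · rw [hN, ← hmapN]
      exact Subgroup.map_mono (hTN i)
    · rw [hN]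
      exact Cfsg.Agent.Lib.MinNormal.le_normalizer_map_conj (hTn i) g
    · intro j
      rw [hN]
      exact hTn j
    · obtain ⟨a, ha, b, hb, hab⟩ := hTna i
      refine ⟨_, ⟨a, ha, rfl⟩, _, ⟨b, hb, rfl⟩, ?_⟩
      intro h
      apply hab
      apply (MulAut.conj g).injective
      rw [map_mul, map_mul]
      exact h
  obtain ⟨σ, hσ⟩ := exists_perm hinj hperm
  -- the kernel acts on every factor
  have hKn : ∀ i, σ.ker ≤ normalizer (T i : Set G) := by
    intro i k hk
    have h1 := hσ k i
    rw [MonoidHom.mem_ker.mp hk, Equiv.Perm.one_apply] at h1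
    rw [mem_normalizer_iff]
    intro h
    constructor
    · intro hh
      rw [← h1]
      exact ⟨h, hh, rfl⟩
    · intro hh
      rw [← h1, mem_map_conj] at hh
      have h2 : k⁻¹ * (k * h * k⁻¹) * k = h := by group
      rwa [h2] at hh
  let θ : ∀ i, σ.ker →* Out (T i) := fun i =>
    (QuotientGroup.mk' (Inn (T i))).comp (((T i).normalizerMonoidHom).comp (inclusion (hKn i)))
  have hker : ∀ k : σ.ker, (∀ i, θ i k = 1) → (k : G) ∈ N ⊔ centralizer (N : Set G) := by
    intro k hk
    apply mem_sup_of_inner hN hcomm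
    intro i
    have h1 : ((T i).normalizerMonoidHom (inclusion (hKn i) k)) ∈ Inn (T i) :=
      (QuotientGroup.eq_one_iff _).mp (hk i)
    obtain ⟨t, ht⟩ := h1
    refine ⟨t, t.2, ?_⟩
    intro x hx
    have h2 := congrArg (fun f : MulAut (T i) => ((f ⟨x, hx⟩ : T i) : G)) ht
    exact h2.symm
  have hfinOut : ∀ i, Finite (Out (T i)) := fun i => inferInstance
  -- index in the kernel
  let Θ : σ.ker →* (∀ i, Out (T i)) := MonoidHom.pi θ
  have hΘ : (Θ.ker).map σ.ker.subtype ≤ R ⊔ centralizer (N : Set G) := by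
    rintro _ ⟨k, hk, rfl⟩
    have h1 : ∀ i, θ i k = 1 := fun i => congrFun (MonoidHom.mem_ker.mp hk) i
    exact (sup_le_sup_right hNR _) (hker k h1)
  have h1 : (R ⊔ centralizer (N : Set G)).relIndex σ.ker ≤ ∏ i, Nat.card (Out (T i)) := by
    have h2 : ((Θ.ker).map σ.ker.subtype).relIndex σ.ker = Nat.card Θ.range := by
      have h3 : ((Θ.ker).map σ.ker.subtype).relIndex σ.ker = Θ.ker.index := by
        rw [relIndex, subgroupOf, Subgroup.comap_map_eq_self_of_injective σ.ker.subtype_injective]
      rw [h3, Subgroup.index_ker]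
    have h4 : (R ⊔ centralizer (N : Set G)).relIndex σ.ker
        ≤ ((Θ.ker).map σ.ker.subtype).relIndex σ.ker := by
      apply relIndex_le_of_le_left hΘ
      rw [h2]
      exact Nat.card_pos.ne'
    refine h4.trans ?_
    rw [h2, ← Nat.card_pi]
    exact Nat.card_le_card_of_injective (fun x => (x : ∀ i, Out (T i))) Subtype.val_injective
  -- index of the image
  have hcent : (centralizer (N : Set G)).Normal := inferInstance
  have hsupn : (R ⊔ centralizer (N : Set G)).Normal := inferInstance
  have h5 : (R ⊔ σ.ker).index ^ 3 ≤ 24 ^ (m - 1) := by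
    have hne : Nonempty (Fin m) := ⟨⟨0, hm⟩⟩
    have hsurj := MonoidHom.rangeRestrict_surjective σ
    have hn : (R.map σ.rangeRestrict).Normal := hR.map _ hsurj
    have hsol : Group.IsSolvable (σ.range ⧸ R.map σ.rangeRestrict) := by
      have hq : Function.Surjective (QuotientGroup.map R (R.map σ.rangeRestrict) σ.rangeRestrict
          (Subgroup.le_comap_map _ _)) := by
        intro x
        obtain ⟨y, rfl⟩ := QuotientGroup.mk'_surjective _ x
        obtain ⟨g, rfl⟩ := hsurj y
        exact ⟨QuotientGroup.mk g, rfl⟩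
      exact Group.isSolvable_of_surjective hq
    have h6 := index_pow_three_le σ.range (R.map σ.rangeRestrict) hsol
    rw [Nat.card_fin, Subgroup.index_map, MonoidHom.range_eq_top_of_surjective _ hsurj, index_top, mul_one,
      MonoidHom.ker_rangeRestrict] at h6
    exact h6
  have hcK : centralizer (N : Set G) ≤ σ.ker := by
    intro g hg
    rw [MonoidHom.mem_ker]
    ext i
    have h6 : (T i).map (MulAut.conj g).toMonoidHom = T i := by
      ext x
      rw [mem_map_conj]
      have h7 : ∀ y ∈ T i, g * y * g⁻¹ = y := by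
        intro y hy
        have := mem_centralizer_iff.mp hg y (hTN i hy)
        rw [← this, mul_inv_cancel_right]
      constructor
      · intro hx
        have h8 := h7 _ hx
        have h9 : g * (g⁻¹ * x * g) * g⁻¹ = x := by group
        rw [h9] at h8
        rw [h8]; exact hx
      · intro hx
        have h8 := h7 x hx
        have h9 : g⁻¹ * x * g = x := by
          conv_lhs => rw [← h8]
          group
        rw [h9]; exact hx
    rw [hσ] at h6
    exact congrArg Fin.val (hinj h6)
  have h7 : (R ⊔ centralizer (N : Set G)).index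
      = (R ⊔ centralizer (N : Set G)).relIndex σ.ker * (R ⊔ σ.ker).index := by
    have h8 : (R ⊔ centralizer (N : Set G)) ⊔ σ.ker = R ⊔ σ.ker := by
      rw [sup_assoc, sup_eq_right.mpr hcK]
    rw [← relIndex_mul_index (le_sup_left : R ⊔ centralizer (N : Set G) ≤ (R ⊔ centralizer (N : Set G)) ⊔ σ.ker),
      relIndex_sup_left, h8]
  rw [h7, mul_pow, Finset.prod_mul_distrib, Finset.prod_const, Finset.card_univ, Fintype.card_fin,
    Finset.prod_pow]
  have h9 : (24 : ℕ) ^ m = 24 * 24 ^ (m - 1) := by
    conv_lhs => rw [show m = (m - 1) + 1 by omega, pow_succ, mul_comm]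
  rw [h9, mul_assoc, mul_comm (24 ^ (m - 1))]
  exact Nat.mul_le_mul_left _ (Nat.mul_le_mul (Nat.pow_le_pow_left h1 3) h5)

end

end Cfsg.Agent.H489
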