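import Mathlib
import Cfsg.Agent.H489.SocleIndex

/-!
# The order of the solvable residual of a finite group with trivial Fitting subgroup

`main_bound`: assuming the bound `24 |Out S| ^ 3 ≤ |S| ^ ε`, `ε = log 192 / log 60`, for all nonabelian finite simple
groups, a nontrivial finite group `G` with `F(G) = 1` satisfies `24 |G : R| ^ 3 ≤ |R| ^ ε` for every normal subgroup
`R` with solvable quotient.
-/

set_option autoImplicit false

namespace Cfsg.Agent.H489

open Subgroup Cfsg

universe u

/-- The exponent. -/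
noncomputable def eps : ℝ := Real.log 192 / Real.log 60

theorem eps_pos : 0 < eps := div_pos (Real.log_pos (by norm_num)) (Real.log_pos (by norm_num))

/-- The bound for outer automorphism groups. -/
def OutBound : Prop := ∀ (S : Type u) [Group S] [Finite S] [IsSimpleGroup S],
  (¬ IsMulCommutative S) → (24 * (Nat.card (Out S) : ℝ) ^ 3) ≤ (Nat.card S : ℝ) ^ eps

theorem card_mul_card_le {G : Type u} [Group G] [Finite G] {A B R : Subgroup G} (hA : A ≤ R) (hB : B ≤ R)
    (h : A ⊓ B = ⊥) : Nat.card A * Nat.card B ≤ Nat.card R := by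
  rw [← Nat.card_prod]
  refine Nat.card_le_card_of_injective (fun x : A × B => (⟨x.1 * x.2, R.mul_mem (hA x.1.2) (hB x.2.2)⟩ : R)) ?_
  rintro ⟨a, b⟩ ⟨c, d⟩ hx
  have h1 : (a : G) * b = c * d := congrArg Subtype.val hx
  have h2 : (c : G)⁻¹ * a = d * (b : G)⁻¹ := by
    rw [inv_mul_eq_iff_eq_mul, ← mul_assoc, ← h1, mul_inv_cancel_right]
  have h3 : (c : G)⁻¹ * a ∈ A ⊓ B := ⟨A.mul_mem (A.inv_mem c.2) a.2, by
    rw [h2]; exact B.mul_mem d.2 (B.inv_mem b.2)⟩
  rw [h, mem_bot] at h3
  have h4 : (a : G) = c := (inv_mul_eq_one.mp h3).symm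
  have h5 : (b : G) = d := by
    rw [h4] at h1
    exact mul_left_cancel h1
  exact Prod.ext (Subtype.ext h4) (Subtype.ext h5)

/-- **Main bound.** -/
theorem main_bound (hOut : OutBound.{u}) (n : ℕ) : ∀ (G : Type u) [Group G] [Finite G], Nat.card G = n →
    Nontrivial G → fittingSubgroup G = ⊥ → ∀ (R : Subgroup G) [R.Normal], Group.IsSolvable (G ⧸ R) →
      24 * (R.index : ℝ) ^ 3 ≤ (Nat.card R : ℝ) ^ eps := by
  induction n using Nat.strong_induction_on with
  | _ n ih =>
  intro G _ _ hcard hnt hF R hR hs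
  -- a minimal normal subgroup
  have hfin : {N : Subgroup G | N.Normal ∧ N ≠ ⊥}.Finite := Set.toFinite _
  obtain ⟨N, ⟨hNn, hN0⟩, hmin'⟩ := hfin.exists_minimal ⟨⊤, ⟨inferInstance, top_ne_bot⟩⟩
  have hmin : ∀ M : Subgroup G, M.Normal → M ≤ N → M = ⊥ ∨ M = N := by
    intro M hM hMN
    by_cases h : M = ⊥
    · exact Or.inl h
    · exact Or.inr (le_antisymm hMN (hmin' ⟨hM, h⟩ hMN))
  obtain ⟨m, T, hm, hTN, hsimple, hTn, hconj, hcomm, hinj, hind, hsup⟩ :=
    Cfsg.Agent.Lib.MinNormal.exists_internal_decomposition N hN0 hmin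
  -- abelian normal subgroups are trivial
  have hab : ∀ A : Subgroup G, A.Normal → (∀ a ∈ A, ∀ b ∈ A, a * b = b * a) → A = ⊥ := by
    intro A hA hAc
    rw [eq_bot_iff, ← hF]
    apply Cfsg.Agent.Lib.Cores.le_fittingSubgroup hA
    let _ : CommGroup A := { (inferInstance : Group A) with
      mul_comm := fun a b => Subtype.ext (hAc a a.2 b b.2) }
    exact CommGroup.isNilpotent
  have hNna : ¬ ∀ a ∈ N, ∀ b ∈ N, a * b = b * a := fun h => hN0 (hab N hNn h)
  have hTna : ∀ i, ∃ a ∈ T i, ∃ b ∈ T i, a * b ≠ b * a := by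
    intro i
    by_contra hcon
    push Not at hcon
    -- then all `T j` are abelian
    have h1 : ∀ j, ∀ a ∈ T j, ∀ b ∈ T j, a * b = b * a := by
      intro j a ha b hb
      obtain ⟨g, hg⟩ := hconj i j
      rw [hg, mem_map_conj] at ha hb
      have h2 := hcon _ ha _ hb
      have h3 : g * ((g⁻¹ * a * g) * (g⁻¹ * b * g)) * g⁻¹ = g * ((g⁻¹ * b * g) * (g⁻¹ * a * g)) * g⁻¹ := by
        rw [h2]
      have h4 : g * ((g⁻¹ * a * g) * (g⁻¹ * b * g)) * g⁻¹ = a * b := by group
      have h5 : g * ((g⁻¹ * b * g) * (g⁻¹ * a * g)) * g⁻¹ = b * a := by group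
      rw [h4, h5] at h3
      exact h3
    have h2 : ∀ j, N ≤ centralizer (T j : Set G) := by
      intro j
      rw [← hsup, iSup_le_iff]
      intro k x hx
      rw [mem_centralizer_iff]
      intro y hy
      by_cases hjk : k = j
      · subst hjk
        exact h1 k y hy x hx
      · exact ((hcomm k j hjk x hx y hy).eq).symm
    apply hNna
    intro a ha b hb
    have h3 : N ≤ centralizer {a} := by
      rw [← hsup, iSup_le_iff]
      intro k x hx
      rw [mem_centralizer_singleton_iff]
      exact mem_centralizer_iff.mp (h2 k ha) x hx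
    exact (mem_centralizer_singleton_iff.mp (h3 hb)).symm
  -- `N ≤ R`
  have hNR : N ≤ R := by
    rcases hmin (N ⊓ R) inferInstance inf_le_left with h | h
    · exfalso
      have hsolN : Group.IsSolvable N := by
        have hinjN : Function.Injective ((QuotientGroup.mk' R).comp N.subtype) := by
          rw [injective_iff_map_eq_one]
          intro x hx
          have h1 : (x : G) ∈ R := (QuotientGroup.eq_one_iff _).mp hx
          have h2 : (x : G) ∈ N ⊓ R := ⟨x.2, h1⟩
          rw [h, mem_bot] at h2
          exact Subtype.ext h2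
        exact Group.isSolvable_of_isSolvable_injective hinjN
      have hi0 : IsSimpleGroup (T ⟨0, hm⟩) := hsimple _
      have hsolT : Group.IsSolvable (T ⟨0, hm⟩) :=
        Group.isSolvable_of_isSolvable_injective (Subgroup.inclusion_injective (hTN ⟨0, hm⟩))
      have hcT := IsSimpleGroup.comm_iff_isSolvable.mpr hsolT
      obtain ⟨a, ha, b, hb, hab'⟩ := hTna ⟨0, hm⟩
      exact hab' (congrArg Subtype.val (hcT ⟨a, ha⟩ ⟨b, hb⟩))
    · exact inf_eq_left.mp h
  -- the core
  have hcore := core_index hm hNn hsup hsimple hTn hTna hcomm hinj R hR hs hNR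
  have hcardN : Nat.card N = ∏ i, Nat.card (T i) := by
    obtain ⟨e⟩ := Cfsg.Agent.Lib.MinNormal.mulEquiv_pi_of_iSupIndep T
      (fun i j hij x y hx hy => hcomm i j hij x hx y hy) hind hsup
    rw [Nat.card_congr e.toEquiv, Nat.card_pi]
  have hcoreR : 24 * ((R ⊔ centralizer (N : Set G)).index : ℝ) ^ 3 ≤ (Nat.card N : ℝ) ^ eps := by
    have h1 : (24 * ((R ⊔ centralizer (N : Set G)).index : ℝ) ^ 3)
        ≤ ∏ i, (24 * (Nat.card (Out (T i)) : ℝ) ^ 3) := by exact_mod_cast hcore
    refine h1.trans ?_
    rw [hcardN, Nat.cast_prod, ← Real.finsetProd_rpow _ _ (fun i _ => Nat.cast_nonneg _)]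
    apply Finset.prod_le_prod
    · intro i _; positivity
    · intro i _
      have := hsimple i
      apply hOut (T i)
      intro hc
      obtain ⟨a, ha, b, hb, hab'⟩ := hTna i
      exact hab' (congrArg Subtype.val (hc.1.1 ⟨a, ha⟩ ⟨b, hb⟩))
  by_cases hM0 : centralizer (N : Set G) = ⊥
  · rw [hM0, sup_bot_eq] at hcoreR
    refine hcoreR.trans ?_
    apply Real.rpow_le_rpow (Nat.cast_nonneg _) _ eps_pos.le
    exact_mod_cast Nat.le_of_dvd Nat.card_pos (Subgroup.card_dvd_of_le hNR)
  · -- induction for the centralizer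
    have hMnt : Nontrivial (centralizer (N : Set G)) := (Subgroup.nontrivial_iff_ne_bot _).mpr hM0
    have hMF : fittingSubgroup (centralizer (N : Set G)) = ⊥ := by
      have h1 := Cfsg.Agent.Lib.Cores.map_subtype_fittingSubgroup
        (N := centralizer (N : Set G)) inferInstance
      rw [hF, inf_bot_eq] at h1
      exact (Subgroup.map_eq_bot_iff_of_injective _ (centralizer (N : Set G)).subtype_injective).mp h1
    have hNM : N ⊓ centralizer (N : Set G) = ⊥ := by
      apply hab
      · infer_instance
      · intro a ha b hb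
        exact mem_centralizer_iff.mp hb.2 a ha.1
    have hMlt : Nat.card (centralizer (N : Set G)) < n := by
      rw [← hcard]
      rcases lt_or_eq_of_le (Nat.le_of_dvd Nat.card_pos (Subgroup.card_subgroup_dvd_card (centralizer (N : Set G))))
        with h | h
      · exact h
      · exfalso
        have h1 : centralizer (N : Set G) = ⊤ := Subgroup.eq_top_of_card_eq _ h
        rw [h1, inf_top_eq] at hNM
        exact hN0 hNM
    have hsolM : Group.IsSolvable (centralizer (N : Set G) ⧸ R.subgroupOf (centralizer (N : Set G))) := by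
      have hf : Function.Injective (QuotientGroup.map (R.subgroupOf (centralizer (N : Set G))) R
          (centralizer (N : Set G)).subtype (by intro x hx; exact hx)) := by
        rw [injective_iff_map_eq_one]
        intro x hx
        obtain ⟨y, rfl⟩ := QuotientGroup.mk'_surjective _ x
        have h7 : (QuotientGroup.mk ((centralizer (N : Set G)).subtype y) : G ⧸ R) = 1 := hx
        rw [QuotientGroup.eq_one_iff] at h7
        exact (QuotientGroup.eq_one_iff y).mpr h7
      exact Group.isSolvable_of_isSolvable_injective hf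
    have hih := ih _ hMlt (centralizer (N : Set G)) rfl hMnt hMF (R.subgroupOf (centralizer (N : Set G)))
      hsolM
    have hidx : R.index = (R ⊔ centralizer (N : Set G)).index * R.relIndex (centralizer (N : Set G)) := by
      rw [← relIndex_mul_index (le_sup_left : R ≤ R ⊔ centralizer (N : Set G)), relIndex_sup_left, mul_comm]
    have hcardR : Nat.card N * Nat.card (R.subgroupOf (centralizer (N : Set G))) ≤ Nat.card R := by
      have h1 : Nat.card (R.subgroupOf (centralizer (N : Set G))) = Nat.card (R ⊓ centralizer (N : Set G) : Subgroup G) := by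
        rw [← Subgroup.subgroupOf_map_subtype]
        exact Nat.card_congr ((R.subgroupOf _).equivMapOfInjective _ (Subgroup.subtype_injective _)).toEquiv
      rw [h1]
      apply card_mul_card_le hNR inf_le_left
      rw [inf_comm R, ← inf_assoc, hNM, bot_inf_eq]
    have hrel : ((R.subgroupOf (centralizer (N : Set G))).index : ℝ) = (R.relIndex (centralizer (N : Set G)) : ℝ) := rfl
    rw [hrel] at hih
    have hpos1 : (0 : ℝ) ≤ (R.relIndex (centralizer (N : Set G)) : ℝ) ^ 3 := by positivity
    have hcardR' : ((Nat.card N : ℝ) * (Nat.card (R.subgroupOf (centralizer (N : Set G))) : ℝ)) ^ eps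
        ≤ (Nat.card R : ℝ) ^ eps := by
      apply Real.rpow_le_rpow (by positivity) _ eps_pos.le
      exact_mod_cast hcardR
    rw [Real.mul_rpow (Nat.cast_nonneg _) (Nat.cast_nonneg _)] at hcardR'
    have hone : (0 : ℝ) ≤ (R.index : ℝ) ^ 3 := by positivity
    rw [hidx, Nat.cast_mul, mul_pow]
    have hprod : (24 * ((R ⊔ centralizer (N : Set G)).index : ℝ) ^ 3) * (24 * (R.relIndex (centralizer (N : Set G)) : ℝ) ^ 3)
        ≤ (Nat.card N : ℝ) ^ eps * (Nat.card (R.subgroupOf (centralizer (N : Set G))) : ℝ) ^ eps := by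
      apply mul_le_mul hcoreR hih (by positivity) (by positivity)
    have hnn : (0 : ℝ) ≤ ((R ⊔ centralizer (N : Set G)).index : ℝ) ^ 3 * (R.relIndex (centralizer (N : Set G)) : ℝ) ^ 3 := by
      positivity
    nlinarith [hprod, hcardR', hnn]

/-- **The residual**: `|G| ^ γ < |R|`. -/
theorem residual_bound (hOut : OutBound.{u}) {G : Type u} [Group G] [Finite G] [Nontrivial G]
    (hF : fittingSubgroup G = ⊥) (R : Subgroup G) [hR : R.Normal] (hs : Group.IsSolvable (G ⧸ R)) :
    (Nat.card G : ℝ) ^ (Real.log 60 / Real.log (120 * (24 : ℝ) ^ ((1 : ℝ) / 3))) < (Nat.card R : ℝ) := by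
  have h := main_bound hOut _ G rfl inferInstance hF R hs
  have hRpos : (0 : ℝ) < Nat.card R := by exact_mod_cast Nat.card_pos
  have hGR : (Nat.card G : ℝ) = (R.index : ℝ) * (Nat.card R : ℝ) := by
    rw [mul_comm]
    exact_mod_cast (Subgroup.card_mul_index R).symm
  have hipos : (0 : ℝ) < R.index := by
    exact_mod_cast Nat.pos_of_ne_zero Subgroup.index_ne_zero_of_finite
  have hlog60 : 0 < Real.log 60 := Real.log_pos (by norm_num)
  have hlog192 : 0 < Real.log 192 := Real.log_pos (by norm_num)
  -- the denominator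
  have hden : Real.log (120 * (24 : ℝ) ^ ((1 : ℝ) / 3)) = (3 * Real.log 60 + Real.log 192) / 3 := by
    rw [Real.log_mul (by norm_num) (by positivity), Real.log_rpow (by norm_num)]
    have h1 : Real.log 192 = 3 * Real.log 2 + Real.log 24 := by
      rw [show (192 : ℝ) = 2 ^ 3 * 24 by norm_num, Real.log_mul (by norm_num) (by norm_num), Real.log_pow]
      norm_num
    have h2 : Real.log 120 = Real.log 2 + Real.log 60 := by
      rw [show (120 : ℝ) = 2 * 60 by norm_num, Real.log_mul (by norm_num) (by norm_num)]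
    rw [h1, h2]; ring
  rw [hden]
  -- take logarithms
  have hlogR : 0 ≤ Real.log (Nat.card R) := Real.log_nonneg (by exact_mod_cast Nat.card_pos)
  have h2 : Real.log 24 + 3 * Real.log R.index ≤ eps * Real.log (Nat.card R) := by
    have h3 := Real.log_le_log (by positivity) h
    rw [Real.log_mul (by norm_num) (by positivity), Real.log_pow, Real.log_rpow hRpos] at h3
    exact_mod_cast h3
  have h24 : 0 < Real.log 24 := Real.log_pos (by norm_num)
  rw [Real.rpow_def_of_pos (by rw [hGR]; positivity), ← Real.lt_log_iff_exp_lt hRpos, hGR,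
    Real.log_mul hipos.ne' hRpos.ne']
  rw [div_div_eq_mul_div, mul_div_assoc', div_lt_iff₀ (by positivity)]
  have heps : eps * Real.log 60 = Real.log 192 := by
    unfold eps
    field_simp
  have h5 : 3 * Real.log R.index < eps * Real.log (Nat.card R) := by linarith
  have h6 : 3 * Real.log R.index * Real.log 60 < eps * Real.log (Nat.card R) * Real.log 60 :=
    mul_lt_mul_of_pos_right h5 hlog60
  have h7 : eps * Real.log (Nat.card R) * Real.log 60 = Real.log 192 * Real.log (Nat.card R) := by
    rw [← heps]; ring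
  rw [h7] at h6
  nlinarith [h6]

end Cfsg.Agent.H489
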