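import Mathlib
import Cfsg.Agent.H489.Residual

/-!
# Numerical criterion for the bound `24 |Out S| ^ 3 ≤ |S| ^ ε`
-/

set_option autoImplicit false

namespace Cfsg.Agent.H489

open Subgroup Cfsg

theorem rpow_eps_sixty : (60 : ℝ) ^ eps = 192 := by
  rw [eps, Real.rpow_def_of_pos (by norm_num)]
  rw [mul_div_cancel₀ _ (Real.log_pos (by norm_num)).ne', Real.exp_log (by norm_num)]

theorem eps_ge : (6 / 5 : ℝ) ≤ eps := by
  rw [eps, div_le_div_iff₀ (by norm_num) (Real.log_pos (by norm_num))]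
  have h1 : Real.log ((60 : ℝ) ^ 6) ≤ Real.log ((192 : ℝ) ^ 5) := Real.log_le_log (by norm_num) (by norm_num)
  rw [Real.log_pow, Real.log_pow] at h1
  push_cast at h1
  linarith

/-- The numerical criterion. -/
theorem crit {o N : ℕ} (hN : 60 ≤ N) (h : 900 * o ^ 5 ≤ 8 * N ^ 2) : 24 * (o : ℝ) ^ 3 ≤ (N : ℝ) ^ eps := by
  have hN' : (60 : ℝ) ≤ N := by exact_mod_cast hN
  have h' : 900 * (o : ℝ) ^ 5 ≤ 8 * (N : ℝ) ^ 2 := by exact_mod_cast h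
  have h60 : (N : ℝ) ^ eps = 192 * ((N : ℝ) / 60) ^ eps := by
    rw [Real.div_rpow (by linarith) (by norm_num), rpow_eps_sixty]
    ring
  have h1 : (1 : ℝ) ≤ (N : ℝ) / 60 := by rw [le_div_iff₀ (by norm_num)]; linarith
  have h2 : ((N : ℝ) / 60) ^ (6 / 5 : ℝ) ≤ ((N : ℝ) / 60) ^ eps := Real.rpow_le_rpow_of_exponent_le h1 eps_ge
  have h3 : ((o : ℝ) / 2) ^ 5 ≤ ((N : ℝ) / 60) ^ 2 := by
    rw [div_pow, div_pow, div_le_div_iff₀ (by norm_num) (by norm_num)]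
    linarith
  have h4 : ((o : ℝ) / 2) ^ 3 ≤ ((N : ℝ) / 60) ^ (6 / 5 : ℝ) := by
    have ho : (0 : ℝ) ≤ (o : ℝ) / 2 := by positivity
    have h5 : (((o : ℝ) / 2) ^ 5) ^ (3 / 5 : ℝ) = ((o : ℝ) / 2) ^ 3 := by
      rw [← Real.rpow_natCast, ← Real.rpow_mul ho, ← Real.rpow_natCast]
      norm_num
    have h6 : (((N : ℝ) / 60) ^ 2) ^ (3 / 5 : ℝ) = ((N : ℝ) / 60) ^ (6 / 5 : ℝ) := by
      rw [← Real.rpow_natCast, ← Real.rpow_mul (by positivity)]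
      norm_num
    rw [← h5, ← h6]
    exact Real.rpow_le_rpow (by positivity) h3 (by norm_num)
  rw [h60]
  have h7 : 24 * (o : ℝ) ^ 3 = 192 * ((o : ℝ) / 2) ^ 3 := by ring
  rw [h7]
  have := h4.trans h2
  linarith

/-- `2 f ≤ q` for `q = p ^ f`. -/
theorem two_mul_le {p f : ℕ} (hp : 2 ≤ p) (hf : 1 ≤ f) : 2 * f ≤ p ^ f := by
  have h1 : 2 ^ f ≤ p ^ f := Nat.pow_le_pow_left hp f
  have h2 : 2 * f ≤ 2 ^ f := by
    obtain ⟨k, rfl⟩ : ∃ k, f = k + 1 := ⟨f - 1, by omega⟩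
    rw [pow_succ]
    have : k < 2 ^ k := Nat.lt_two_pow_self
    omega
  omega

end Cfsg.Agent.H489
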