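import Mathlib

/-!
# Numerical inequalities `900 o ^ 5 ≤ 8 N ^ 2` for the orders of the simple groups of Lie type
-/

set_option autoImplicit false

namespace Cfsg.Agent.H489.Num

theorem pow_helper {q q0 a b i j : ℕ} (hq : q0 ≤ q) (hij : i ≤ j) (h : a ≤ b * q0 ^ (j - i)) :
    a * q ^ i ≤ b * q ^ j := by
  obtain ⟨k, rfl⟩ := Nat.exists_eq_add_of_le hij
  rw [Nat.add_sub_cancel_left] at h
  calc a * q ^ i ≤ (b * q0 ^ k) * q ^ i := Nat.mul_le_mul_right _ h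
    _ ≤ (b * q ^ k) * q ^ i := Nat.mul_le_mul_right _ (Nat.mul_le_mul_left _ (Nat.pow_le_pow_left hq k))
    _ = b * q ^ (i + k) := by rw [pow_add]; ring

/-- generic: `o ≤ c q ^ i`, `q ^ j ≤ c' N`. -/
theorem generic {q q0 o N c c' i j : ℕ} (hq : q0 ≤ q) (ho : o ≤ c * q ^ i) (hN : q ^ j ≤ c' * N)
    (hij : i * 5 ≤ j * 2) (h : 900 * c ^ 5 * c' ^ 2 ≤ 8 * q0 ^ (j * 2 - i * 5)) (hc' : 1 ≤ c') :
    900 * o ^ 5 ≤ 8 * N ^ 2 := by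
  have h1 : (900 * c ^ 5 * c' ^ 2) * q ^ (i * 5) ≤ 8 * q ^ (j * 2) := pow_helper hq hij h
  have h2 : o ^ 5 ≤ c ^ 5 * q ^ (i * 5) := by
    rw [pow_mul, ← mul_pow]
    exact Nat.pow_le_pow_left ho 5
  have h3 : q ^ (j * 2) ≤ c' ^ 2 * N ^ 2 := by
    rw [pow_mul, ← mul_pow]
    exact Nat.pow_le_pow_left hN 2
  have h4 : (900 * o ^ 5) * c' ^ 2 ≤ (8 * N ^ 2) * c' ^ 2 := by
    calc (900 * o ^ 5) * c' ^ 2 ≤ (900 * (c ^ 5 * q ^ (i * 5))) * c' ^ 2 := by gcongr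
      _ = (900 * c ^ 5 * c' ^ 2) * q ^ (i * 5) := by ring
      _ ≤ 8 * q ^ (j * 2) := h1
      _ ≤ 8 * (c' ^ 2 * N ^ 2) := by gcongr
      _ = (8 * N ^ 2) * c' ^ 2 := by ring
  exact Nat.le_of_mul_le_mul_right h4 (by positivity)

theorem psl_two_even {q f N : ℕ} (hq : 4 ≤ q) (hf : 2 * f ≤ q) (hN : N = q * (q ^ 2 - 1)) :
    900 * f ^ 5 ≤ 8 * N ^ 2 := by
  have h1 : 900 * q ^ 3 ≤ 256 * (q ^ 2 - 1) ^ 2 := by
    obtain ⟨k, rfl⟩ := Nat.exists_eq_add_of_le hq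
    have h : (4 + k) ^ 2 - 1 = 15 + 8 * k + k ^ 2 := by
      have : (4 + k) ^ 2 = 15 + 8 * k + k ^ 2 + 1 := by ring
      omega
    rw [h]
    nlinarith [Nat.zero_le k, Nat.zero_le (k ^ 2), Nat.zero_le (k ^ 3), Nat.zero_le (k ^ 4)]
  have h2 : (2 * f) ^ 5 ≤ q ^ 5 := Nat.pow_le_pow_left hf 5
  have h3 : 32 * (900 * f ^ 5) ≤ 32 * (8 * N ^ 2) := by
    calc 32 * (900 * f ^ 5) = 900 * (2 * f) ^ 5 := by ring
      _ ≤ 900 * q ^ 5 := by gcongr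
      _ = (900 * q ^ 3) * q ^ 2 := by ring
      _ ≤ (256 * (q ^ 2 - 1) ^ 2) * q ^ 2 := by gcongr
      _ = 32 * (8 * N ^ 2) := by rw [hN]; ring
  omega

theorem psl_two_odd {p f q N : ℕ} (hp : 3 ≤ p) (hqf : q = p ^ f) (hf : 1 ≤ f) (hq : 5 ≤ q) (hN : 2 * N = q * (q ^ 2 - 1)) :
    900 * (2 * f) ^ 5 ≤ 8 * N ^ 2 := by
  have h1 : 3 ^ f ≤ q := by rw [hqf]; exact Nat.pow_le_pow_left hp f
  have h0 : 4 * (900 * (2 * f) ^ 5) ≤ 4 * (8 * N ^ 2) := by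
    have h2 : 4 * (8 * N ^ 2) = 8 * (q * (q ^ 2 - 1)) ^ 2 := by rw [← hN]; ring
    rw [h2]
    have mono : ∀ a : ℕ, a ≤ q → 8 * (a * (a ^ 2 - 1)) ^ 2 ≤ 8 * (q * (q ^ 2 - 1)) ^ 2 := by
      intro a ha
      have : a ^ 2 ≤ q ^ 2 := Nat.pow_le_pow_left ha 2
      gcongr
    rcases Nat.lt_or_ge f 3 with hf3 | hf3
    · interval_cases f
      · exact le_trans (by norm_num) (mono 5 hq)
      · exact le_trans (by norm_num) (mono 9 h1)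
    · -- `9 f ≤ q`
      have h3 : 9 * f ≤ 3 ^ f := by
        obtain ⟨k, rfl⟩ := Nat.exists_eq_add_of_le hf3
        rw [pow_add]
        have : k + 1 ≤ 3 ^ k := by
          have := Nat.lt_pow_self (n := k) (a := 3) (by norm_num)
          omega
        have h4 : 3 + k ≤ 3 * 3 ^ k := by omega
        calc 9 * (3 + k) ≤ 9 * (3 * 3 ^ k) := by gcongr
          _ = 3 ^ 3 * 3 ^ k := by norm_num; ring
      have h4 : 9 * f ≤ q := h3.trans h1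
      have h5 : (9 * f) ^ 5 ≤ q ^ 5 := Nat.pow_le_pow_left h4 5
      have h6 : q ≤ q ^ 2 - 1 := by
        have : q * 2 ≤ q ^ 2 := by nlinarith
        omega
      have h7 : 4 * (900 * (2 * f) ^ 5) ≤ 2 * (9 * f) ^ 5 := by ring_nf; omega
      have h8 : q ^ 4 * 4 ≤ (q * (q ^ 2 - 1)) ^ 2 * 4 := by
        have : (q * q) ^ 2 ≤ (q * (q ^ 2 - 1)) ^ 2 := Nat.pow_le_pow_left (Nat.mul_le_mul_left _ h6) 2
        nlinarith
      -- need `2 q^5 ≤ 8 (q (q^2-1))^2`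
      have h9 : q ^ 3 ≤ (q ^ 2 - 1) ^ 2 := by
        have h10 : 1 ≤ q ^ 2 := Nat.one_le_pow _ _ (by omega)
        zify [h10]
        have : (5 : ℤ) ≤ q := by exact_mod_cast hq
        nlinarith [mul_self_nonneg ((q : ℤ) ^ 2 - q), pow_pos (show (0 : ℤ) < q by linarith) 3]
      calc 4 * (900 * (2 * f) ^ 5) ≤ 2 * (9 * f) ^ 5 := h7
        _ ≤ 2 * q ^ 5 := by gcongr
        _ = 2 * (q ^ 2 * q ^ 3) := by ring
        _ ≤ 8 * (q ^ 2 * (q ^ 2 - 1) ^ 2) := by gcongr; norm_num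
        _ = 8 * (q * (q ^ 2 - 1)) ^ 2 := by ring
  omega

theorem mono_pow {a q : ℕ} (k : ℕ) (h : a ≤ q) : a ^ k ≤ q ^ k := Nat.pow_le_pow_left h k

/-- `PSL_3(q)`: `d = gcd(3, q - 1)`, `d N = q^3 (q^2 - 1) (q^3 - 1)`, `o = 2 d f`. -/
theorem psl_three {q f d N : ℕ} (hq : 2 ≤ q) (hf : 2 * f ≤ q) (hd : d = 1 ∨ (d = 3 ∧ 4 ≤ q))
    (hN : d * N = q ^ 3 * ((q ^ 2 - 1) * (q ^ 3 - 1))) : 900 * (2 * f * d) ^ 5 ≤ 8 * N ^ 2 := by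
  have hf5 : (2 * f) ^ 5 ≤ q ^ 5 := Nat.pow_le_pow_left hf 5
  have key : 900 * d ^ 7 ≤ 8 * q * ((q ^ 2 - 1) * (q ^ 3 - 1)) ^ 2 := by
    have mono : ∀ a : ℕ, a ≤ q → 8 * a * ((a ^ 2 - 1) * (a ^ 3 - 1)) ^ 2 ≤ 8 * q * ((q ^ 2 - 1) * (q ^ 3 - 1)) ^ 2 := by
      intro a ha
      have h2 := mono_pow 2 ha
      have h3 := mono_pow 3 ha
      gcongr
    rcases hd with rfl | ⟨rfl, h4⟩
    · exact le_trans (by norm_num) (mono 2 hq)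
    · exact le_trans (by norm_num) (mono 4 h4)
  have hd0 : 0 < d := by rcases hd with rfl | ⟨rfl, -⟩ <;> norm_num
  have h : (900 * (2 * f * d) ^ 5) * d ^ 2 ≤ (8 * N ^ 2) * d ^ 2 := by
    calc (900 * (2 * f * d) ^ 5) * d ^ 2 = (900 * d ^ 7) * (2 * f) ^ 5 := by ring
      _ ≤ (8 * q * ((q ^ 2 - 1) * (q ^ 3 - 1)) ^ 2) * q ^ 5 := Nat.mul_le_mul key hf5
      _ = 8 * (q ^ 3 * ((q ^ 2 - 1) * (q ^ 3 - 1))) ^ 2 := by ring
      _ = (8 * N ^ 2) * d ^ 2 := by rw [← hN]; ring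
  exact Nat.le_of_mul_le_mul_right h (by positivity)

/-- `PSU_3(q)`: `d = gcd(3, q + 1)`, `d N = q^3 (q^2 - 1) (q^3 + 1)`, `o = 2 d f`. -/
theorem psu_three {q f d N : ℕ} (hq : 3 ≤ q) (hf : 2 * f ≤ q) (hd : d = 1 ∨ (d = 3 ∧ 5 ≤ q))
    (hN : d * N = q ^ 3 * ((q ^ 2 - 1) * (q ^ 3 + 1))) : 900 * (2 * f * d) ^ 5 ≤ 8 * N ^ 2 := by
  have hf5 : (2 * f) ^ 5 ≤ q ^ 5 := Nat.pow_le_pow_left hf 5
  have key : 900 * d ^ 7 ≤ 8 * q * ((q ^ 2 - 1) * (q ^ 3 + 1)) ^ 2 := by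
    have mono : ∀ a : ℕ, a ≤ q → 8 * a * ((a ^ 2 - 1) * (a ^ 3 + 1)) ^ 2 ≤ 8 * q * ((q ^ 2 - 1) * (q ^ 3 + 1)) ^ 2 := by
      intro a ha
      have h2 := mono_pow 2 ha
      have h3 := mono_pow 3 ha
      gcongr
    rcases hd with rfl | ⟨rfl, h4⟩
    · exact le_trans (by norm_num) (mono 3 hq)
    · exact le_trans (by norm_num) (mono 5 h4)
  have hd0 : 0 < d := by rcases hd with rfl | ⟨rfl, -⟩ <;> norm_num
  have h : (900 * (2 * f * d) ^ 5) * d ^ 2 ≤ (8 * N ^ 2) * d ^ 2 := by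
    calc (900 * (2 * f * d) ^ 5) * d ^ 2 = (900 * d ^ 7) * (2 * f) ^ 5 := by ring
      _ ≤ (8 * q * ((q ^ 2 - 1) * (q ^ 3 + 1)) ^ 2) * q ^ 5 := Nat.mul_le_mul key hf5
      _ = 8 * (q ^ 3 * ((q ^ 2 - 1) * (q ^ 3 + 1))) ^ 2 := by ring
      _ = (8 * N ^ 2) * d ^ 2 := by rw [← hN]; ring
  exact Nat.le_of_mul_le_mul_right h (by positivity)

theorem q_le_sq_sub {q k : ℕ} (hq : 2 ≤ q) : q ^ k ≤ q ^ (k + 1) - 1 := by
  have h : q ^ k * 2 ≤ q ^ (k + 1) := by rw [pow_succ]; exact Nat.mul_le_mul_left _ hq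
  have h1 : 1 ≤ q ^ k := Nat.one_le_pow _ _ (by omega)
  omega

/-- lower bound for `|PSL_n(q)|`, `n ≥ 4` -/
theorem psl_lower {q n d N : ℕ} (hq : 2 ≤ q) (hn : 4 ≤ n) (hd : d ≤ q - 1)
    (hN : d * ((q - 1) * N) = ∏ i : Fin n, (q ^ n - q ^ (i : ℕ))) : q ^ 12 ≤ N := by
  have h1 : ∀ i : Fin n, q ^ (n - 1) * (q - 1) ≤ q ^ n - q ^ (i : ℕ) := by
    intro i
    have h2 : q ^ (i : ℕ) ≤ q ^ (n - 1) := Nat.pow_le_pow_right (by omega) (by omega)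
    have h3 : q ^ n = q ^ (n - 1) * q := by rw [← pow_succ]; congr 1; omega
    rw [Nat.mul_sub_one, h3]
    omega
  have h2 : (q ^ (n - 1) * (q - 1)) ^ n ≤ d * ((q - 1) * N) := by
    rw [hN]
    calc (q ^ (n - 1) * (q - 1)) ^ n = ∏ _i : Fin n, (q ^ (n - 1) * (q - 1)) := by
          rw [Finset.prod_const, Finset.card_univ, Fintype.card_fin]
      _ ≤ _ := Finset.prod_le_prod' fun i _ => h1 i
  have h3 : (q ^ 3 * (q - 1)) ^ 4 ≤ (q ^ (n - 1) * (q - 1)) ^ n := by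
    have h4 : q ^ 3 * (q - 1) ≤ q ^ (n - 1) * (q - 1) :=
      Nat.mul_le_mul_right _ (Nat.pow_le_pow_right (by omega) (by omega))
    calc (q ^ 3 * (q - 1)) ^ 4 ≤ (q ^ (n - 1) * (q - 1)) ^ 4 := Nat.pow_le_pow_left h4 4
      _ ≤ _ := Nat.pow_le_pow_right (Nat.mul_pos (pow_pos (by omega) _) (by omega)) hn
  have h5 : (q - 1) ^ 2 * q ^ 12 ≤ (q - 1) ^ 2 * N := by
    calc (q - 1) ^ 2 * q ^ 12 ≤ (q - 1) ^ 4 * q ^ 12 :=
          Nat.mul_le_mul_right _ (Nat.pow_le_pow_right (by omega) (by norm_num))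
      _ = (q ^ 3 * (q - 1)) ^ 4 := by ring
      _ ≤ d * ((q - 1) * N) := h3.trans h2
      _ ≤ (q - 1) * ((q - 1) * N) := Nat.mul_le_mul_right _ hd
      _ = (q - 1) ^ 2 * N := by ring
  exact Nat.le_of_mul_le_mul_left h5 (pow_pos (by omega) 2)

/-- lower bound for `|PSU_n(q)|`, `n ≥ 4` -/
theorem psu_lower {q n d N : ℕ} (hq : 2 ≤ q) (hn : 4 ≤ n) (hd : d ≤ q + 1)
    (hN : d * ((q + 1) * N) = q ^ (n * (n - 1) / 2) *
      ∏ i ∈ Finset.range n, (if Even i then q ^ (i + 1) + 1 else q ^ (i + 1) - 1)) : q ^ 12 ≤ N := by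
  have h1 : ∏ i ∈ Finset.range 4, (if Even i then q ^ (i + 1) + 1 else q ^ (i + 1) - 1) ≤
      ∏ i ∈ Finset.range n, (if Even i then q ^ (i + 1) + 1 else q ^ (i + 1) - 1) := by
    refine Finset.prod_le_prod_of_subset_of_one_le' (Finset.range_mono hn) fun i _ _ => ?_
    split_ifs
    · omega
    · have h2 : q ^ i ≤ q ^ (i + 1) - 1 := q_le_sq_sub hq
      have h3 : 1 ≤ q ^ i := Nat.one_le_pow _ _ (by omega)
      omega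
  have h2 : q ^ 6 ≤ q ^ (n * (n - 1) / 2) := by
    apply Nat.pow_le_pow_right (by omega)
    have : 4 * 3 ≤ n * (n - 1) := Nat.mul_le_mul hn (by omega)
    omega
  have h3 : ∏ i ∈ Finset.range 4, (if Even i then q ^ (i + 1) + 1 else q ^ (i + 1) - 1) =
      (q + 1) * (q ^ 2 - 1) * (q ^ 3 + 1) * (q ^ 4 - 1) := by
    simp [Finset.prod_range_succ, Nat.even_iff]
  have h4 : q ^ 2 - 1 = (q + 1) * (q - 1) := by
    have := Nat.sq_sub_sq q 1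
    simpa using this
  have h5 : q ^ 3 ≤ q ^ 4 - 1 := q_le_sq_sub hq
  have h6 : (q + 1) ^ 2 * q ^ 12 ≤ (q + 1) ^ 2 * N := by
    calc (q + 1) ^ 2 * q ^ 12 = q ^ 6 * ((q + 1) * ((q + 1) * 1) * q ^ 3 * q ^ 3) := by ring
      _ ≤ q ^ 6 * ((q + 1) * ((q + 1) * (q - 1)) * (q ^ 3 + 1) * (q ^ 4 - 1)) := by
          gcongr
          · omega
          · omega
      _ = q ^ 6 * ((q + 1) * (q ^ 2 - 1) * (q ^ 3 + 1) * (q ^ 4 - 1)) := by rw [h4]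
      _ ≤ q ^ (n * (n - 1) / 2) * ∏ i ∈ Finset.range n, (if Even i then q ^ (i + 1) + 1 else q ^ (i + 1) - 1) :=
          Nat.mul_le_mul h2 (h3 ▸ h1)
      _ = d * ((q + 1) * N) := hN.symm
      _ ≤ (q + 1) * ((q + 1) * N) := Nat.mul_le_mul_right _ hd
      _ = (q + 1) ^ 2 * N := by ring
  exact Nat.le_of_mul_le_mul_left h6 (by positivity)

/-- the product `∏ (q^(2i) - 1)` is at least the product of the first two factors -/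
theorem prod_two_le {q m : ℕ} (hq : 2 ≤ q) (hm : 2 ≤ m) :
    (q ^ 2 - 1) * (q ^ 4 - 1) ≤ ∏ i ∈ Finset.range m, (q ^ (2 * (i + 1)) - 1) := by
  have h1 : ∏ i ∈ Finset.range 2, (q ^ (2 * (i + 1)) - 1) ≤ ∏ i ∈ Finset.range m, (q ^ (2 * (i + 1)) - 1) := by
    refine Finset.prod_le_prod_of_subset_of_one_le' (Finset.range_mono hm) fun i _ _ => ?_
    have h2 : q ^ (2 * i + 1) ≤ q ^ (2 * i + 1 + 1) - 1 := q_le_sq_sub hq
    have h3 : 1 ≤ q ^ (2 * i + 1) := Nat.one_le_pow _ _ (by omega)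
    have h4 : 2 * (i + 1) = 2 * i + 1 + 1 := by ring
    rw [h4]
    omega
  refine le_trans (le_of_eq ?_) h1
  simp [Finset.prod_range_succ]

/-- `PSp_2m(q)` -/
theorem psp_lower {q m c N : ℕ} (hq : 2 ≤ q) (hm : 2 ≤ m) (hc : c ≤ 2)
    (hN : c * N = q ^ (m ^ 2) * ∏ i ∈ Finset.range m, (q ^ (2 * (i + 1)) - 1)) :
    q ^ 4 * ((q ^ 2 - 1) * (q ^ 4 - 1)) ≤ 2 * N := by
  calc q ^ 4 * ((q ^ 2 - 1) * (q ^ 4 - 1)) ≤ q ^ (m ^ 2) * ∏ i ∈ Finset.range m, (q ^ (2 * (i + 1)) - 1) :=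
        Nat.mul_le_mul (Nat.pow_le_pow_right (by omega) (by nlinarith)) (prod_two_le hq hm)
    _ = c * N := hN.symm
    _ ≤ 2 * N := Nat.mul_le_mul_right _ hc

theorem psp {q N o : ℕ} (hq : 2 ≤ q) (ho : o ≤ q) (hN : q ^ 4 * ((q ^ 2 - 1) * (q ^ 4 - 1)) ≤ 2 * N) :
    900 * o ^ 5 ≤ 8 * N ^ 2 := by
  have h1 : q ^ 1 ≤ q ^ 2 - 1 := q_le_sq_sub hq
  have h2 : q ^ 3 ≤ q ^ 4 - 1 := q_le_sq_sub hq
  refine generic (q0 := 2) (c := 1) (c' := 2) (i := 1) (j := 8) hq (by simpa using ho) ?_ (by norm_num)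
    (by norm_num) (by norm_num)
  calc q ^ 8 = q ^ 4 * (q ^ 1 * q ^ 3) := by ring
    _ ≤ q ^ 4 * ((q ^ 2 - 1) * (q ^ 4 - 1)) := by gcongr
    _ ≤ 2 * N := hN

end Cfsg.Agent.H489.Num
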