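import Cfsg.Agent.H904.HSIso
import Cfsg.Agent.H516.Tools

/-!
# The odd row of `HS` of S4094, S4096, S3842 (helper489)

* `dvd_card_of_orbits` : an invariant set is a union of orbits;
* `not_central` : in `HS` no element of order 3 centralises a subgroup of order 125 (action on 100 points: the fixed
  points of the element of order 3 are permuted by a 5-group with orbits of length divisible by 25, and by an involution
  without fixed points);
* `no_card` : `HS` has no subgroup of order 1125;
* `row` : **the row**.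
-/

set_option autoImplicit false

namespace Cfsg.Agent.H489.RowHS

open Subgroup MulAction Cfsg.Agent.H516

universe u

theorem isPGroup_zpowers {G : Type*} [Group G] {p n : ℕ} {x : G} (h : x ^ p ^ n = 1) : IsPGroup p (zpowers x) := by
  rintro ⟨y, hy⟩
  obtain ⟨k, rfl⟩ := mem_zpowers_iff.1 hy
  refine ⟨n, Subtype.ext ?_⟩
  change (x ^ k) ^ p ^ n = 1
  rw [← zpow_natCast, ← zpow_mul, mul_comm, zpow_mul, zpow_natCast, h, one_zpow]

section orbits

variable {G : Type*} [Group G] {Ω : Type*} [MulAction G Ω] [Finite Ω]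

/-- an invariant set is a union of orbits -/
theorem dvd_card_of_orbits {k : ℕ} (S : SubMulAction G Ω) (h : ∀ x ∈ S, k ∣ (stabilizer G x).index) :
    k ∣ Nat.card S := by
  classical
  rw [Nat.card_congr (selfEquivSigmaOrbits G S)]
  have : Finite (orbitRel.Quotient G S) := Quotient.finite _
  have := Fintype.ofFinite (orbitRel.Quotient G S)
  rw [Nat.card_sigma]
  refine Finset.dvd_sum fun x _ => ?_
  have h1 := h (x.out : S) x.out.2
  rw [← SubMulAction.stabilizer_of_subMul, index_stabilizer, Set.ncard_def] at h1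
  exact h1

variable [Finite G] [FaithfulSMul G Ω] [IsPretransitive G Ω]

omit [FaithfulSMul G Ω] [Finite Ω] in
theorem dvd_index (hG : Nat.card G = 44352000) (hΩ : Nat.card Ω = 100) {P : Subgroup G} (hP : Nat.card P = 125) (i : Ω) :
    25 ∣ (stabilizer P i).index := by
  have hst : Nat.card (stabilizer G i) = 443520 := by
    have h4 := (stabilizer G i).card_mul_index
    rw [index_stabilizer_of_transitive, hG, hΩ] at h4
    omega
  have h4 := (stabilizer P i).card_mul_index
  rw [hP] at h4
  have h5 : Nat.card (stabilizer P i) ∣ 443520 := by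
    rw [← hst]
    have h6 : (stabilizer P i).map P.subtype ≤ stabilizer G i := by
      rintro _ ⟨x, hx, rfl⟩
      exact hx
    have h7 := card_dvd_of_le h6
    rwa [← Nat.card_congr ((stabilizer P i).equivMapOfInjective _ P.subtype_injective).toEquiv] at h7
  have h6 : Nat.card (stabilizer P i) ∣ 5 := by
    have h7 := Nat.dvd_gcd (Dvd.intro _ h4) h5
    norm_num at h7
    exact h7
  obtain ⟨c, hc⟩ := h6
  refine ⟨c, ?_⟩
  have h7 : 0 < Nat.card (stabilizer P i) := Nat.card_pos
  refine Nat.eq_of_mul_eq_mul_left h7 ?_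
  rw [h4, show Nat.card (stabilizer P i) * (25 * c) = 25 * (Nat.card (stabilizer P i) * c) by ring, ← hc]

section fix

omit [Finite Ω] [Finite G] [FaithfulSMul G Ω] [IsPretransitive G Ω] in
theorem fix_inv {b l : G} (hl : l * b = b * l) {i : Ω} (hi : i ∈ {i : Ω | b • i = i}) : l • i ∈ {i : Ω | b • i = i} := by
  change b • l • i = l • i
  rw [← mul_smul, ← hl, mul_smul]
  exact congrArg _ hi

omit [Finite Ω] [Finite G] [FaithfulSMul G Ω] [IsPretransitive G Ω] in
theorem fixedPoints_zpowers (b : G) : fixedPoints (zpowers b) Ω = {i : Ω | b • i = i} := by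
  ext i
  rw [mem_fixedPoints]
  constructor
  · intro h
    exact h ⟨b, mem_zpowers b⟩
  · rintro hi ⟨l, hl⟩
    have h6 : zpowers b ≤ stabilizer G i := by
      rw [zpowers_le]
      exact hi
    exact h6 hl

omit [FaithfulSMul G Ω] in
theorem fix_dvd (hG : Nat.card G = 44352000) (hΩ : Nat.card Ω = 100) {b : G} {P : Subgroup G}
    (hP : Nat.card P = 125) (hPb : P ≤ centralizer ({b} : Set G)) : 25 ∣ Nat.card {i : Ω | b • i = i} := by
  let S : SubMulAction P Ω :=
    ⟨{i : Ω | b • i = i}, fun l _ hi => fix_inv (mem_centralizer_singleton_iff.1 (hPb l.2)) hi⟩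
  exact dvd_card_of_orbits S fun i _ => dvd_index hG hΩ hP i

omit [Finite G] [FaithfulSMul G Ω] [IsPretransitive G Ω] in
theorem fix_even {t b : G} (ht2 : t * t = 1) (htb : t * b = b * t)
    (htf : ∀ i : Ω, t • i ≠ i) : 2 ∣ Nat.card {i : Ω | b • i = i} := by
  have h2 : Fact (Nat.Prime 2) := ⟨by norm_num⟩
  have htb' : ∀ l : zpowers t, (l : G) * b = b * l := by
    rintro ⟨l, hl⟩
    obtain ⟨k, rfl⟩ := mem_zpowers_iff.1 hl
    exact (Commute.zpow_left (show Commute t b from htb) k).eq
  let S : SubMulAction (zpowers t) Ω := ⟨{i : Ω | b • i = i}, fun l _ hi => fix_inv (htb' l) hi⟩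
  have hg : IsPGroup 2 (zpowers t) := isPGroup_zpowers (n := 1) (by rw [pow_one, pow_two, ht2])
  have h4 := hg.card_modEq_card_fixedPoints (α := S)
  have h5 : Nat.card (fixedPoints (zpowers t) S) = 0 := by
    rw [Nat.card_eq_zero]
    left
    refine ⟨fun x => ?_⟩
    have h6 := x.2 ⟨t, mem_zpowers t⟩
    exact htf (x : S) (congrArg Subtype.val h6)
  rw [h5] at h4
  exact (Nat.modEq_zero_iff_dvd).1 h4

omit [Finite G] [FaithfulSMul G Ω] [IsPretransitive G Ω] in
theorem fix_mod {b : G} (hb : orderOf b = 3) : Nat.card {i : Ω | b • i = i} % 3 = Nat.card Ω % 3 := by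
  have h3 : Fact (Nat.Prime 3) := ⟨by norm_num⟩
  have hg : IsPGroup 3 (zpowers b) := isPGroup_zpowers (n := 1) (by rw [pow_one, ← hb, pow_orderOf_eq_one])
  have h4 := hg.card_modEq_card_fixedPoints (α := Ω)
  rw [fixedPoints_zpowers] at h4
  exact h4.symm

end fix

theorem false_of_fix (hG : Nat.card G = 44352000) (hΩ : Nat.card Ω = 100) {t b : G} (ht2 : t * t = 1) (htb : t * b = b * t)
    (htf : ∀ i : Ω, t • i ≠ i) (hb : orderOf b = 3) {P : Subgroup G}
    (hP : Nat.card P = 125) (hPb : P ≤ centralizer ({b} : Set G)) : False := by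
  have h1 := fix_dvd (Ω := Ω) hG hΩ hP hPb
  have h2 := fix_even ht2 htb htf
  have h3 := fix_mod (Ω := Ω) hb
  rw [hΩ] at h3
  have hle : Nat.card {i : Ω | b • i = i} ≤ 100 := by
    rw [← hΩ]
    exact Nat.card_le_card_of_injective Subtype.val Subtype.val_injective
  have h100 : Nat.card {i : Ω | b • i = i} = 100 := by
    generalize Nat.card {i : Ω | b • i = i} = f at h1 h2 h3 hle
    omega
  have h4 : {i : Ω | b • i = i} = Set.univ := by
    rw [Set.eq_univ_iff_ncard, ← Nat.card_coe_set_eq, h100, hΩ]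
  have hb1 : b = 1 := by
    apply eq_of_smul_eq_smul (α := Ω)
    intro i
    rw [one_smul]
    have h5 : i ∈ {i : Ω | b • i = i} := h4 ▸ Set.mem_univ i
    exact h5
  rw [hb1, orderOf_one] at hb
  norm_num at hb

end orbits

variable {L : Type u} [Group L]

/-- an element of order 3 commutes with an involution of class 2B -/
theorem exists_inv [Finite L] (hL : Nat.card L = 44352000) {w : L} (hw : Nat.card (centralizer ({w} : Set L)) = 2880)
    {b : L} (hb : orderOf b = 3) : ∃ g : L, (g * w * g⁻¹) * b = b * (g * w * g⁻¹) := by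
  classical
  have h3 : Fact (Nat.Prime 3) := ⟨by norm_num⟩
  obtain ⟨E, hE⟩ := Sylow.exists_subgroup_card_pow_prime (G := centralizer ({w} : Set L)) 3 (n := 2)
    (by rw [hw]; norm_num)
  have hEL : Nat.card (E.map (centralizer ({w} : Set L)).subtype) = 3 ^ 2 := by
    rw [← hE]
    exact (Nat.card_congr (E.equivMapOfInjective _ (Subgroup.subtype_injective _)).toEquiv).symm
  have hfac : (Nat.card L).factorization 3 = 2 := by
    rw [hL, show 44352000 = 3 ^ 2 * 4928000 by norm_num, Nat.factorization_mul (by norm_num) (by norm_num),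
      Finsupp.add_apply, Nat.prime_three.factorization_pow, Finsupp.single_eq_same,
      Nat.factorization_eq_zero_of_not_dvd (by norm_num)]
  obtain ⟨T, hT⟩ : ∃ T : Sylow 3 L, (T : Subgroup L) = E.map (centralizer ({w} : Set L)).subtype :=
    ⟨Sylow.ofCard (E.map (centralizer ({w} : Set L)).subtype) (hEL.trans (by rw [hfac])), rfl⟩
  obtain ⟨T', hT'⟩ := (IsPGroup.of_card (p := 3) (n := 1) (G := zpowers b)
    (by rw [Nat.card_zpowers, hb, pow_one])).exists_le_sylow
  obtain ⟨g, hg⟩ := exists_smul_eq L T' T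
  have h4 : g * b * g⁻¹ ∈ (T : Subgroup L) := by
    rw [← hg]
    rw [Sylow.coe_subgroup_smul]
    exact ⟨b, hT' (mem_zpowers b), rfl⟩
  rw [hT] at h4
  obtain ⟨⟨y, hy⟩, -, h5⟩ := h4
  change y = g * b * g⁻¹ at h5
  rw [mem_centralizer_singleton_iff, h5] at hy
  refine ⟨g⁻¹, ?_⟩
  rw [inv_inv]
  calc g⁻¹ * w * g * b = g⁻¹ * (w * (g * b * g⁻¹)) * g := by group
    _ = g⁻¹ * (g * b * g⁻¹ * w) * g := by rw [hy]
    _ = b * (g⁻¹ * w * g) := by group

/-- **in `HS` no element of order 3 centralises a subgroup of order 125** -/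
theorem not_central (h : Cfsg.Spor.IsoHS L) {b : L} (hb : orderOf b = 3) {P : Subgroup L}
    (hP : Nat.card P = 125) (hPb : P ≤ centralizer ({b} : Set L)) : False := by
  obtain ⟨D, ψ, R⟩ := H904.HSCent.exists_rep h
  have hfin : Finite L := KFacts.HS.DFour.fin D
  have hL : Nat.card L = 44352000 := KFacts.HS.card h
  obtain ⟨g, hg⟩ := exists_inv hL (H904.HSCent.card_wB R) hb
  let _ : MulAction L (Fin 100) := MulAction.compHom _ ψ
  have hf : FaithfulSMul L (Fin 100) := ⟨fun {x y} hxy => R.inj (Equiv.ext hxy)⟩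
  have ht : IsPretransitive L (Fin 100) := by
    refine ⟨fun i j => ?_⟩
    obtain ⟨q, hq⟩ := HN.HS100.trans_Q.exists_smul_eq i j
    obtain ⟨l, hl⟩ := R.exists_of_mem q.2
    refine ⟨l, ?_⟩
    change ψ l i = j
    rw [hl]
    exact hq
  refine false_of_fix (Ω := Fin 100) hL (by rw [Nat.card_eq_fintype_card, Fintype.card_fin]) (t := g * KFacts.HS.DFour.wB D * g⁻¹) ?_ hg ?_ hb hP hPb
  · calc g * KFacts.HS.DFour.wB D * g⁻¹ * (g * KFacts.HS.DFour.wB D * g⁻¹)
        = g * (KFacts.HS.DFour.wB D * KFacts.HS.DFour.wB D) * g⁻¹ := by group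
      _ = 1 := by rw [KFacts.HS.DFour.wB_sq D]; group
  · intro i hi
    change ψ (g * KFacts.HS.DFour.wB D * g⁻¹) i = i at hi
    rw [map_mul, map_mul, map_inv, R.map_wB, Equiv.Perm.mul_apply, Equiv.Perm.mul_apply] at hi
    refine H904.HSCent.w_ne ((ψ g)⁻¹ i) ?_
    rw [Equiv.Perm.eq_inv_iff_eq]
    exact hi

section order1125

variable {F : Type*} [Group F] [Finite F]

/-- A group of order 1125 has an element of order 3 centralising a subgroup of order 125. -/
theorem exists_central (hF : Nat.card F = 1125) : ∃ (b : F) (P : Subgroup F), orderOf b = 3 ∧ Nat.card P = 125 ∧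
    P ≤ centralizer ({b} : Set F) := by
  classical
  have h5 : Fact (Nat.Prime 5) := ⟨by norm_num⟩
  have h3 : Fact (Nat.Prime 3) := ⟨by norm_num⟩
  by_contra hcon
  push Not at hcon
  obtain ⟨P⟩ : Nonempty (Sylow 5 F) := inferInstance
  have hP : Nat.card (P : Subgroup F) = 125 := by
    rw [P.card_eq_multiplicity, hF, show 1125 = 5 ^ 3 * 9 by norm_num, Nat.factorization_mul (by norm_num) (by norm_num),
      Finsupp.add_apply, h5.out.factorization_pow, Finsupp.single_eq_same,
      Nat.factorization_eq_zero_of_not_dvd (by norm_num)]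
    norm_num
  have hPn : (P : Subgroup F).Normal := by
    have h1 := card_sylow_modEq_one 5 F
    have h2 : Nat.card (Sylow 5 F) ∣ 9 := by
      have h3 := P.card_dvd_index
      have h4 := (P : Subgroup F).card_mul_index
      rw [hP, hF] at h4
      have h6 : (P : Subgroup F).index = 9 := by omega
      rwa [h6] at h3
    have h4 : Nat.card (Sylow 5 F) = 1 := by
      have h6 := Nat.le_of_dvd (by norm_num) h2
      unfold Nat.ModEq at h1
      generalize Nat.card (Sylow 5 F) = n at h1 h2 h6
      interval_cases n <;> omega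
    have := (Nat.card_eq_one_iff_unique.1 h4).1
    exact P.normal_of_subsingleton
  obtain ⟨E, hE⟩ := Sylow.exists_subgroup_card_pow_prime (G := F) 3 (n := 2) (by rw [hF]; norm_num)
  let _ : MulAction F (P : Subgroup F) := MulAction.compHom _ (MulAut.conjNormal (H := (P : Subgroup F)))
  have hsm : ∀ (g : F) (x : (P : Subgroup F)), ((g • x : (P : Subgroup F)) : F) = g * x * g⁻¹ := fun g x => rfl
  -- the subgroups of fixed points
  have hfix : ∀ D : Subgroup F, IsPGroup 3 D → D ≠ ⊥ → ∃ C : Subgroup (P : Subgroup F), Nat.card C = 5 ∧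
      (C : Set (P : Subgroup F)) = fixedPoints D (P : Subgroup F) := by
    intro D hD hD1
    let C : Subgroup (P : Subgroup F) := (centralizer (D : Set F)).subgroupOf (P : Subgroup F)
    have hC : (C : Set (P : Subgroup F)) = fixedPoints D (P : Subgroup F) := by
      ext x
      rw [mem_fixedPoints]
      constructor
      · intro hx d
        have hx' : (x : F) ∈ centralizer (D : Set F) := mem_subgroupOf.1 hx
        rw [mem_centralizer_iff] at hx'
        apply Subtype.ext
        change ((d : F) * x * (d : F)⁻¹ : F) = x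
        rw [hx' d d.2, mul_inv_cancel_right]
      · intro hx
        refine mem_subgroupOf.2 (mem_centralizer_iff.2 fun d hd => ?_)
        have h1 : (d * x * d⁻¹ : F) = x := congrArg Subtype.val (hx ⟨d, hd⟩)
        rw [mul_inv_eq_iff_eq_mul] at h1
        exact h1
    refine ⟨C, ?_, hC⟩
    have h1 := hD.card_modEq_card_fixedPoints (α := (P : Subgroup F))
    rw [← hC, hP] at h1
    have h2 : Nat.card C ∣ 5 ^ 3 := by
      have := Subgroup.card_subgroup_dvd_card C
      rwa [hP] at this
    obtain ⟨k, hk, hk'⟩ := (Nat.dvd_prime_pow h5.out).1 h2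
    change 125 ≡ Nat.card C [MOD 3] at h1
    rw [hk'] at h1 ⊢
    unfold Nat.ModEq at h1
    interval_cases k
    · norm_num at h1
    · norm_num
    · norm_num at h1
    · exfalso
      -- an element of order 3 in `D`
      obtain ⟨d, hd, hd1⟩ := D.bot_or_exists_ne_one.resolve_left hD1
      have h3d : 3 ∣ orderOf d := by
        have h4 : 3 ∣ Nat.card (zpowers d) := by
          have h6 : IsPGroup 3 (zpowers d) := hD.to_le (by rw [zpowers_le]; exact hd)
          obtain ⟨n, hn⟩ := IsPGroup.iff_card.1 h6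
          rw [hn]
          refine dvd_pow_self 3 fun h0 => ?_
          rw [h0, pow_zero, Nat.card_zpowers, orderOf_eq_one_iff] at hn
          exact hd1 hn
        rwa [Nat.card_zpowers] at h4
      have h6 : orderOf (d ^ (orderOf d / 3)) = 3 := orderOf_pow_orderOf_div (orderOf_pos d).ne' h3d
      refine hcon _ (P : Subgroup F) h6 hP ?_
      intro x hx
      have h7 : C = ⊤ := by
        rw [← Subgroup.card_eq_iff_eq_top, hk', hP]
        norm_num
      have h8 : (⟨x, hx⟩ : (P : Subgroup F)) ∈ C := h7 ▸ mem_top _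
      have h9 := mem_centralizer_iff.1 (mem_subgroupOf.1 h8) (d ^ (orderOf d / 3)) (D.pow_mem hd _)
      rw [mem_centralizer_singleton_iff]
      exact h9.symm
  have hE3 : IsPGroup 3 E := IsPGroup.of_card hE
  obtain ⟨C, hC5, hC⟩ := hfix E hE3 (by
    rintro rfl
    rw [card_bot] at hE
    norm_num at hE)
  -- the complement of `C` is a union of regular orbits
  have hCn : ∀ {g : F}, g ∈ E → ∀ {x : (P : Subgroup F)}, x ∈ (C : Set (P : Subgroup F)) → g • x = x := by
    intro g hg x hx
    rw [hC] at hx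
    exact hx ⟨g, hg⟩
  let S : SubMulAction E (P : Subgroup F) := ⟨((C : Set (P : Subgroup F)))ᶜ, fun g x hx hgx => hx (by
    have h1 := hCn (E.inv_mem g.2) hgx
    have h2 : ((g : F)⁻¹ • (g : F) • x : (P : Subgroup F)) = (g : F) • x := h1
    rw [inv_smul_smul] at h2
    rw [h2]
    exact hgx)⟩
  have h9 : 9 ∣ Nat.card S := by
    refine dvd_card_of_orbits S fun x hx => ?_
    have h1 : stabilizer E x = ⊥ := by
      by_contra hne
      obtain ⟨d, hd, hd1⟩ := (stabilizer E x).bot_or_exists_ne_one.resolve_left hne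
      obtain ⟨C', hC5', hC'⟩ := hfix (zpowers (d : F)) (hE3.to_le (by rw [zpowers_le]; exact d.2)) (by
        rw [Ne, zpowers_eq_bot]
        exact fun h => hd1 (Subtype.ext h))
      have hle : C ≤ C' := by
        intro y hy
        have h2 : y ∈ (C' : Set (P : Subgroup F)) := by
          rw [hC']
          rintro ⟨l, hl⟩
          exact hCn (zpowers_le.2 d.2 hl) hy
        exact h2
      have heq : C = C' := Subgroup.eq_of_le_of_card_ge hle (by rw [hC5, hC5'])
      apply hx
      have h2 : x ∈ (C' : Set (P : Subgroup F)) := by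
        rw [hC', fixedPoints_zpowers]
        exact hd
      rw [heq]
      exact h2
    rw [h1, index_bot, hE]
    norm_num
  have h120 : Nat.card S = 120 := by
    have h1 : Nat.card S = ((C : Set (P : Subgroup F))ᶜ).ncard := rfl
    rw [h1, Set.ncard_compl, hP, ← Nat.card_coe_set_eq]
    have h2 : Nat.card ((C : Set (P : Subgroup F))) = 5 := hC5
    rw [h2]
  rw [h120] at h9
  norm_num at h9

end order1125

/-- **`HS` has no subgroup of order 1125.** -/
theorem no_card (h : Cfsg.Spor.IsoHS L) (F : Subgroup L) : Nat.card F ≠ 1125 := by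
  intro hF
  have hfin : Finite F := Nat.finite_of_card_ne_zero (by rw [hF]; norm_num)
  obtain ⟨b, P, hb, hP, hPb⟩ := exists_central hF
  refine not_central h (b := (b : L)) (by rw [Subgroup.orderOf_coe, hb]) (P := P.map F.subtype) ?_ ?_
  · rw [← hP]
    exact (Nat.card_congr (P.equivMapOfInjective _ F.subtype_injective).toEquiv).symm
  · rintro _ ⟨x, hx, rfl⟩
    have h1 := mem_centralizer_singleton_iff.1 (hPb hx)
    exact mem_centralizer_singleton_iff.2 (congrArg Subtype.val h1)

/-- **The odd row of `HS`.** -/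
theorem row {L : Type u} [Group L] [Finite L] (h : Cfsg.Spor.IsoHS L) {p : ℕ} {a : MulAut L} {b : L} (S : Sit p a b) :
    False := by
  have hL : Nat.card L = 44352000 := KFacts.HS.card h
  have h1 := S.two_pow_le (k := 9) (by rw [hL]; norm_num)
  have hq : orderOf b = 3 ∨ orderOf b = 5 ∨ orderOf b = 7 ∨ orderOf b = 11 := by
    have h2 := S.mem_list [3, 5, 7, 11] (by intro r hr; fin_cases hr <;> norm_num) hL (by norm_num)
    simpa using h2
  have h7 : ∀ c : L, orderOf c = 7 → b * c = c * b → orderOf b ∣ 7 := by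
    intro c hc hbc
    rw [← H904.HSIso.card_seven h hc, ← Subgroup.orderOf_mk _ (mem_centralizer_singleton_iff.2 hbc)]
    exact orderOf_dvd_natCard _
  have h11 : ∀ c : L, orderOf c = 11 → b * c = c * b → orderOf b ∣ 11 := by
    intro c hc hbc
    rw [← H904.HSIso.card_eleven h hc, ← Subgroup.orderOf_mk _ (mem_centralizer_singleton_iff.2 hbc)]
    exact orderOf_dvd_natCard _
  have key : orderOf b = 3 ∨ orderOf b = 5 → False := by
    intro hb
    have h2 : Nat.card (centralizer ({b} : Set L)) ∣ 2 ^ 9 * 1125 := by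
      refine H516.card_dvd (R := 77) (by rw [hL]; norm_num) ?_
      intro r hr hr77 c hc hbc
      have h3 : r = 7 ∨ r = 11 := by
        have h4 : r ∣ 7 * 11 := by simpa using hr77
        rcases hr.dvd_mul.1 h4 with h5 | h5
        · exact Or.inl ((Nat.prime_dvd_prime_iff_eq hr (by norm_num)).1 h5)
        · exact Or.inr ((Nat.prime_dvd_prime_iff_eq hr (by norm_num)).1 h5)
      rcases h3 with rfl | rfl
      · have h4 := h7 c hc hbc
        rcases hb with h5 | h5 <;> rw [h5] at h4 <;> norm_num at h4
      · have h4 := h11 c hc hbc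
        rcases hb with h5 | h5 <;> rw [h5] at h4 <;> norm_num at h4
    obtain ⟨k, hk⟩ := S.card_dvd h2
    refine no_card h _ (?_ : Nat.card (fixedSubgroup a) = 1125)
    generalize Nat.card (fixedSubgroup a) = f at h1 hk
    have h3 : k = 0 ∨ k = 1 ∨ k = 2 ∨ 3 ≤ k := by omega
    rcases h3 with rfl | rfl | rfl | h3
    · omega
    · omega
    · omega
    · nlinarith
  rcases hq with hb | hb | hb | hb
  · exact key (Or.inl hb)
  · exact key (Or.inr hb)
  · have h2 := Subgroup.card_le_of_le S.le
    rw [H904.HSIso.card_seven h hb] at h2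
    omega
  · have h2 := Subgroup.card_le_of_le S.le
    rw [H904.HSIso.card_eleven h hb] at h2
    omega

end Cfsg.Agent.H489.RowHS
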